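import Cfsg.Agent.Lib.FFourLocal.Ctrl.Centre
import Cfsg.Agent.Lib.Chevalley.Aut.Cases
import Cfsg.Agent.S2156

/-!
# The automorphisms of F₄(2)

Over two elements the diagonal and field automorphisms are trivial, so every automorphism is inner or inner composed
with the involutory graph automorphism.
-/

set_option autoImplicit false
set_option linter.style.haveILetI false
set_option maxRecDepth 20000

namespace Cfsg.Agent.FFourLocal.Ctrl

open Cfsg.Lie Cfsg.Agent.Chevalley Cfsg.Agent.Chevalley.Group
open Cfsg.Agent.F4TwoMult (hC)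

universe u

/-- The permutation of the roots of the graph automorphism. -/
def rho (r : ℕ) : ℕ := Types.GAut.tabF4.perm.getD r 0

theorem rho_ok : ((List.range 48).all fun r => Nat.blt (rho r) 48 && rho (rho r) == r &&
      (!decide (24 ≤ r) || decide (24 ≤ rho r))) = true ∧ rho 47 = 44 ∧ rho 44 = 47 ∧
    ((List.range 4).all fun i => rho (chevF4.simple i) == chevF4.simple (3 - i) &&
      rho (chevF4.neg (chevF4.simple i)) == chevF4.neg (chevF4.simple (3 - i))) = true :=
  ⟨by decide +kernel, by decide +kernel, by decide +kernel, by decide +kernel⟩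

theorem rho_lt {r : ℕ} (hr : r < 48) : rho r < 48 := by
  have h := List.all_eq_true.1 rho_ok.1 r (List.mem_range.2 hr)
  simp only [Bool.and_eq_true, Nat.blt_eq] at h
  exact h.1.1

theorem rho_rho {r : ℕ} (hr : r < 48) : rho (rho r) = r := by
  have h := List.all_eq_true.1 rho_ok.1 r (List.mem_range.2 hr)
  simp only [Bool.and_eq_true, beq_iff_eq] at h
  exact h.1.2

theorem sym_ok : ((List.range 4).all fun a => (List.range 4).all fun b => (List.range 4).all fun c =>
    (List.range 4).all fun d =>
      let p := [a, b, c, d]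
      !(a != b && a != c && a != d && b != c && b != d && c != d &&
        (List.range 4).all fun i => (List.range 4).all fun j =>
          i == j || chevF4.bonds (p.getD i 0) (p.getD j 0) == chevF4.bonds i j) ||
      p == [0, 1, 2, 3] || p == [3, 2, 1, 0]) = true := by decide +kernel

theorem rank_four : chevF4.rank = 4 := by decide +kernel

variable {F : Type u} [Field F] [Fintype F] (hF : Fintype.card F = 2)
include hF

/-- Two homomorphisms agreeing on the fundamental root elements and their negatives are equal. -/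
theorem hom_ext {H : Type*} [Group H] {a b : FM F →* H}
    (h : ∀ i < 4, a (rx F (chevF4.simple i)) = b (rx F (chevF4.simple i)) ∧
      a (rx F (chevF4.neg (chevF4.simple i))) = b (rx F (chevF4.neg (chevF4.simple i)))) : a = b := by
  have hn : ∀ L : List ℕ, (∀ i ∈ L, i < 4) → a (nw F L) = b (nw F L) := by
    intro L hL
    simp only [nw, map_list_prod, List.map_map]
    refine congrArg List.prod (List.map_congr_left fun i hi => ?_)
    simp only [Function.comp_apply, nx, map_mul, (h i (hL i hi)).1, (h i (hL i hi)).2]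
  have hr : ∀ r < 48, a (rx F r) = b (rx F r) := by
    intro r hr
    have h1 := List.all_eq_true.1 reach_ok r (List.mem_range.2 hr)
    simp only [Bool.and_eq_true, Nat.blt_eq, List.all_eq_true, beq_iff_eq] at h1
    generalize reach.getD r (0, []) = p at h1
    obtain ⟨i, L⟩ := p
    obtain ⟨⟨⟨hi, hL⟩, h1⟩, -⟩ := h1
    have hs := List.all_eq_true.1 simple_lt i (List.mem_range.2 hi)
    simp only [Bool.and_eq_true, Nat.blt_eq] at hs
    rw [F4TwoMult.wT_eq hL hs.1] at h1
    rw [← h1, ← nw_conj hF hL hs.1]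
    simp only [map_mul, map_inv, hn L hL, (h i hi).1]
  refine MonoidHom.ext fun g => ?_
  obtain ⟨v, hv, L, hL, u, hu, rfl⟩ := form hF g
  have hU : upos F ≤ MonoidHom.eqLocus a b := by
    refine (Subgroup.closure_le _).2 ?_
    rintro _ ⟨r, -, hr', rfl⟩
    exact hr r hr'
  simp only [map_mul, show a v = b v from hU hv, show a u = b u from hU hu, hn L hL]

theorem rx_of_matrix {r : ℕ} (hr : r < 48) {g : FM F}
    (h : ((g : GL chevF4.Idx F) : Matrix chevF4.Idx chevF4.Idx F) = chevF4.x F r 1) : g = rx F r :=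
  Subtype.ext (Units.ext (h.trans (by rw [coe_rx F hr]; rfl)))

/-- The involutory graph automorphism. -/
theorem exists_sig : ∃ σ : FM F ≃* FM F, (∀ r < 48, σ (rx F r) = rx F (rho r)) ∧ ∀ x, σ (σ x) = x := by
  haveI : Finite F := Finite.of_fintype F
  haveI := F4TwoMult.charP_two hF
  have hp := AutThm.charOK_of_ringChar (F := F) Nat.prime_two (ringChar.eq F 2)
  obtain ⟨α, hα, h⟩ := GraphAut.exists_hom (F := F) hC ⟨⟨_, Types.CoefF4.coef_ok⟩, ⟨_, Types.StCerts.conj_F4⟩⟩ hp
    Types.GAut.rel_F4 Types.GAut.onto_F4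
  have hr : ∀ r < 48, α (rx F r) = rx F (rho r) := by
    intro r hr
    refine Subtype.ext ?_
    have h1 := h r (nroots.symm ▸ hr) 1
    rw [show (⟨xg hC r (1 : F), Borel.xg_mem_group hC (nroots.symm ▸ hr) 1⟩ : FM F) = rx F r from
      Subtype.ext (coe_rx F hr).symm] at h1
    rw [h1, coe_rx F (rho_lt hr), GraphAut.Xi, one_pow, mul_one]
    have e : ((Types.GAut.tabF4.ε r : ℤ) : F) = 1 := by
      rw [F4TwoMult.cast_int hF]
      have : ((List.range 48).all fun r => !(Types.GAut.tabF4.ε r % 2 == 0)) = true := by decide +kernel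
      have := List.all_eq_true.1 this r (List.mem_range.2 hr)
      simp only [Bool.not_eq_true'] at this
      rw [this]
      rfl
    rw [e]
    rfl
  refine ⟨MulEquiv.ofBijective α ⟨Finite.injective_iff_surjective.2 hα, hα⟩, hr, fun x => ?_⟩
  have := hom_ext hF (a := α.comp α) (b := MonoidHom.id _) fun i hi => by
    have hs := List.all_eq_true.1 simple_lt i (List.mem_range.2 hi)
    simp only [Bool.and_eq_true, Nat.blt_eq] at hs
    simp only [MonoidHom.coe_comp, Function.comp_apply, MonoidHom.id_apply, hr _ hs.1, hr _ hs.2,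
      hr _ (rho_lt hs.1), hr _ (rho_lt hs.2), rho_rho hs.1, rho_rho hs.2, and_self]
  exact DFunLike.congr_fun this x

/-- The graph automorphism. -/
noncomputable def sig : FM F ≃* FM F := (exists_sig hF).choose

theorem sig_rx {r : ℕ} (hr : r < 48) : sig hF (rx F r) = rx F (rho r) := (exists_sig hF).choose_spec.1 r hr

theorem sig_sig (x : FM F) : sig hF (sig hF x) = x := (exists_sig hF).choose_spec.2 x

/-- Every automorphism is inner, or inner after the graph automorphism. -/
theorem aut_form (θ : FM F ≃* FM F) :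
    ∃ x : FM F, (∀ y, θ y = x * y * x⁻¹) ∨ ∀ y, θ y = x * sig hF y * x⁻¹ := by
  haveI : Finite F := Finite.of_fintype F
  obtain ⟨x, d, g, f, ⟨χ, -, hd⟩, ⟨π, hπ, hg⟩, ⟨σ, hf⟩, h⟩ := S2156.result chevF4 (by simp) θ
  have hd1 : ∀ y, d y = y := fun y => by
    refine Subtype.ext (Units.ext ?_)
    rw [hd y]
    have e : χ = 1 := funext fun i => Units.ext ((F4TwoMult.eq_or hF (χ i : F)).resolve_left (χ i).ne_zero)
    have e2 : chevF4.charDiag F (fun _ => (1 : Fˣ)) = 1 := by
      rw [ChevalleyDatum.charDiag, ← Matrix.diagonal_one]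
      exact congrArg Matrix.diagonal (funext fun i => by cases i <;> rfl)
    subst e
    simp only [Pi.one_apply, inv_one]
    rw [show chevF4.charDiag F (1 : ℕ → Fˣ) = 1 from e2, e2, Matrix.one_mul, Matrix.mul_one]
  have hsl : ∀ i < 4, chevF4.simple i < 48 ∧ chevF4.neg (chevF4.simple i) < 48 := fun i hi => by
    have hs := List.all_eq_true.1 simple_lt i (List.mem_range.2 hi)
    simpa only [Bool.and_eq_true, Nat.blt_eq] using hs
  have hf1 : ∀ y, f y = y := DFunLike.congr_fun (hom_ext hF (a := f.toMonoidHom) (b := MonoidHom.id _) fun i hi => by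
    have hm : ∀ r < 48, f (rx F r) = rx F r := fun r hr => rx_of_matrix hF hr (by
      have := hf (rx F r) r 1 (nroots.symm ▸ hr) (by rw [coe_rx F hr]; rfl)
      rwa [map_one] at this)
    exact ⟨hm _ (hsl i hi).1, hm _ (hsl i hi).2⟩)
  have hgr : ∀ (i : ℕ) (hi : i < 4), g (rx F (chevF4.simple i)) = rx F (chevF4.simple (π ⟨i, rank_four.symm ▸ hi⟩)) ∧
      g (rx F (chevF4.neg (chevF4.simple i))) =
        rx F (chevF4.neg (chevF4.simple (π ⟨i, rank_four.symm ▸ hi⟩))) := by
    intro i hi
    have hpi : ((π ⟨i, rank_four.symm ▸ hi⟩ : Fin chevF4.rank) : ℕ) < 4 := lt_of_lt_of_eq (Fin.isLt _) rank_four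
    constructor
    · refine rx_of_matrix hF (hsl _ hpi).1 ?_
      have := (hg (rx F (chevF4.simple i)) ⟨i, rank_four.symm ▸ hi⟩ 1).1 (by rw [coe_rx F (hsl i hi).1]; rfl)
      rwa [one_pow] at this
    · refine rx_of_matrix hF (hsl _ hpi).2 ?_
      have := (hg (rx F (chevF4.neg (chevF4.simple i))) ⟨i, rank_four.symm ▸ hi⟩ 1).2
        (by rw [coe_rx F (hsl i hi).2]; rfl)
      rwa [one_pow] at this
  refine ⟨x, ?_⟩
  let q : ℕ → ℕ := fun i => if hi : i < 4 then (π ⟨i, rank_four.symm ▸ hi⟩ : ℕ) else 0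
  have hq : ∀ i (hi : i < 4), q i = (π ⟨i, rank_four.symm ▸ hi⟩ : ℕ) := fun i hi => dif_pos hi
  have hq4 : ∀ i < 4, q i < 4 := fun i hi => hq i hi ▸ lt_of_lt_of_eq (Fin.isLt _) rank_four
  have hqi : ∀ i < 4, ∀ j < 4, q i = q j → i = j := fun i hi j hj e => by
    rw [hq i hi, hq j hj] at e
    simpa using π.injective (Fin.ext e)
  have hqb : ∀ i < 4, ∀ j < 4, i ≠ j → chevF4.bonds (q i) (q j) = chevF4.bonds i j := fun i hi j hj hne => by
    rw [hq i hi, hq j hj]
    exact hπ _ _ (fun e => hne (congrArg Fin.val e))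
  have hp : [q 0, q 1, q 2, q 3] = [0, 1, 2, 3] ∨ [q 0, q 1, q 2, q 3] = [3, 2, 1, 0] := by
    have h4 := List.all_eq_true.1 (List.all_eq_true.1 (List.all_eq_true.1 (List.all_eq_true.1 sym_ok
      (q 0) (List.mem_range.2 (hq4 0 (by norm_num)))) (q 1) (List.mem_range.2 (hq4 1 (by norm_num))))
      (q 2) (List.mem_range.2 (hq4 2 (by norm_num)))) (q 3) (List.mem_range.2 (hq4 3 (by norm_num)))
    simp only [Bool.or_eq_true, Bool.not_eq_true', beq_iff_eq] at h4
    rcases h4 with (h4 | h4) | h4
    · exfalso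
      have hne : ∀ i < 4, ∀ j < 4, i ≠ j → q i ≠ q j := fun i hi j hj hn e => hn (hqi i hi j hj e)
      refine Bool.false_ne_true (h4.symm.trans ?_)
      simp only [Bool.and_eq_true, bne_iff_ne, List.all_eq_true, List.mem_range, Bool.or_eq_true, beq_iff_eq]
      refine ⟨⟨⟨⟨⟨⟨hne 0 (by norm_num) 1 (by norm_num) (by norm_num), hne 0 (by norm_num) 2 (by norm_num) (by norm_num)⟩,
        hne 0 (by norm_num) 3 (by norm_num) (by norm_num)⟩, hne 1 (by norm_num) 2 (by norm_num) (by norm_num)⟩,
        hne 1 (by norm_num) 3 (by norm_num) (by norm_num)⟩, hne 2 (by norm_num) 3 (by norm_num) (by norm_num)⟩,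
        fun i hi j hj => ?_⟩
      rcases eq_or_ne i j with e | e
      · exact Or.inl e
      · refine Or.inr ?_
        have key : ∀ k < 4, [q 0, q 1, q 2, q 3].getD k 0 = q k := fun k hk => by
          interval_cases k <;> rfl
        rw [key i hi, key j hj, hqb i hi j hj e]
    · exact Or.inl h4
    · exact Or.inr h4
  rcases hp with e | e
  · left
    have hg1 : ∀ y, g y = y := DFunLike.congr_fun (hom_ext hF (a := g.toMonoidHom) (b := MonoidHom.id _) fun i hi => by
      have : q i = i := by simp only [List.cons.injEq] at e; interval_cases i <;> tauto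
      have h1 := hgr i hi
      rw [← hq i hi, this] at h1
      exact h1)
    intro y
    rw [h y, hf1, hg1, hd1]
  · right
    have hg1 : g.toMonoidHom = (sig hF).toMonoidHom :=
      hom_ext hF (a := g.toMonoidHom) (b := (sig hF).toMonoidHom) fun i hi => by
      have : q i = 3 - i := by simp only [List.cons.injEq] at e; interval_cases i <;> tauto
      have h1 := hgr i hi
      rw [← hq i hi, this] at h1
      have h2 := List.all_eq_true.1 rho_ok.2.2.2 i (List.mem_range.2 hi)
      simp only [Bool.and_eq_true, beq_iff_eq] at h2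
      refine ⟨h1.1.trans ?_, h1.2.trans ?_⟩
      · show _ = sig hF _
        rw [sig_rx hF (hsl i hi).1, h2.1]
      · show _ = sig hF _
        rw [sig_rx hF (hsl i hi).2, h2.2]
    intro y
    rw [h y, hf1, show g y = sig hF y from DFunLike.congr_fun hg1 y, hd1]

end Cfsg.Agent.FFourLocal.Ctrl
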