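import Cfsg.Agent.Lib.FFourLocal.Ctrl.Local
import Cfsg.Agent.Lib.FFourLocal.Ctrl.Auto

/-!
# A copy of F₄(2) holding its elements of order three is everything

All involutions of the copy have centralizers inside it; a dihedral group finishes.
-/

set_option autoImplicit false
set_option linter.style.haveILetI false
set_option maxRecDepth 20000

namespace Cfsg.Agent.FFourLocal.Ctrl

open Subgroup
open Cfsg.Agent.F4TwoMult (com tm)

universe u v

variable {F : Type u} [Field F] [Fintype F] {G : Type v} [Group G] [Finite G] {f : FM F →* G}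

theorem final_ok : (com 46 44 = true ∧ com 47 39 = true ∧ com 47 45 = true ∧ com 46 39 = true ∧ com 46 45 = true) ∧
    (com 47 44 = true ∧ com 39 45 = true ∧ F4TwoMult.wT [3] 47 = 46 ∧ F4TwoMult.wT [2, 3] 47 = 45 ∧ tm 24 46 = [47] ∧
      Cfsg.Agent.F4TwoMult.off 24 46 = true) :=
  ⟨by decide +kernel, by decide +kernel⟩

theorem Setup.range_self (hF : Fintype.card F = 2) (hinj : Function.Injective f) (hH : Holds f.range) :
    Setup f f.range where
  card_F := hF
  inj := hinj
  le := le_rfl
  holds := hH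
  cap := fun _ h _ => h
  swap := by
    rintro _ ⟨x, rfl⟩ s hs
    exact ⟨x, s, hs, by rw [map_mul, map_mul, map_inv]⟩

/-- Setup transported through the graph automorphism, inside the range. -/
theorem Setup.cent_short (S : Setup f f.range) : centralizer ({f (rx F 44)} : Set G) ≤ f.range := by
  have hF := S.card_F
  set f' := f.comp (sig hF).toMonoidHom with hf'
  have he : f'.range = f.range := by
    rw [hf', MonoidHom.range_comp, MonoidHom.range_eq_top.2 (sig hF).surjective, ← MonoidHom.range_eq_map]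
  have h := (Setup.range_self (f := f') hF (S.inj.comp (sig hF).injective) (he.symm ▸ S.holds)).cent_long
  rw [he] at h
  have e : f' (rx F 47) = f (rx F 44) := by
    show f (sig hF (rx F 47)) = _
    rw [sig_rx hF (by norm_num), rho_ok.2.1]
  rwa [e] at h

/-- An involution with centralizer inside fixes one point only. -/
theorem Setup.uniq (S : Setup f f.range) {x : FM F} (hx : orderOf x = 2)
    (hc : centralizer ({f x} : Set G) ≤ f.range) {g : G} (hg : g * f x * g⁻¹ ∈ f.range) : g ∈ f.range := by
  obtain ⟨p, hp⟩ := hg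
  have h3 : ∀ {d : FM F}, orderOf d = 3 → orderOf (f d) = 3 := fun hd => by
    rw [orderOf_injective f S.inj, hd]
  obtain ⟨d, hd3, hdx⟩ := inv_three S.card_F hx
  obtain ⟨e, he3, hep⟩ := inv_three S.card_F (x := p) (by
    rw [← orderOf_injective f S.inj, hp, ← MulAut.conj_apply, MulEquiv.orderOf_eq, orderOf_injective f S.inj, hx])
  obtain ⟨c, hcH, hcx⟩ := S.holds.ctrl (S := {f x}) (g := g) (S.mem d) (h3 hd3)
    (fun y hy => by obtain rfl : y = f x := hy; exact (hdx.map f).eq) (S.mem e) (h3 he3)
    (fun y hy => by obtain rfl : y = f x := hy; rw [← hp]; exact (hep.map f).eq)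
  have h1 : c⁻¹ * g ∈ f.range := hc (mem_centralizer_singleton_iff.2 (by
    have e1 := hcx (f x) rfl
    calc c⁻¹ * g * f x = c⁻¹ * (g * f x * g⁻¹) * g := by group
      _ = c⁻¹ * (c * f x * c⁻¹) * g := by rw [e1]
      _ = f x * (c⁻¹ * g) := by group))
  rw [show g = c * (c⁻¹ * g) by group]
  exact mul_mem hcH h1

omit [Fintype F] [Finite G] in
theorem cent_conj {x : FM F} (h : centralizer ({f x} : Set G) ≤ f.range) (y : FM F) :
    centralizer ({f (y * x * y⁻¹)} : Set G) ≤ f.range := by
  intro g hg
  have h1 := h (show (f y)⁻¹ * g * f y ∈ centralizer ({f x} : Set G) from mem_centralizer_singleton_iff.2 (by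
    have e := mem_centralizer_singleton_iff.1 hg
    rw [map_mul, map_mul, map_inv] at e
    calc (f y)⁻¹ * g * f y * f x = (f y)⁻¹ * (g * (f y * f x * (f y)⁻¹)) * f y := by group
      _ = (f y)⁻¹ * (f y * f x * (f y)⁻¹ * g) * f y := by rw [e]
      _ = f x * ((f y)⁻¹ * g * f y) := by group))
  rw [show g = f y * ((f y)⁻¹ * g * f y) * (f y)⁻¹ by group]
  exact mul_mem (mul_mem ⟨y, rfl⟩ h1) (inv_mem ⟨y, rfl⟩)

/-- A copy of F₄(2) holding its elements of order three is the whole group. -/
theorem Setup.range_top (S : Setup f f.range) : f.range = ⊤ := by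
  have hF := S.card_F
  obtain ⟨⟨c46_44, c47_39, c47_45, c46_39, c46_45⟩, c47_44, c39_45, w46, w45, t24, o24⟩ := final_ok
  have cm : ∀ {r s : ℕ}, r < 48 → s < 48 → com r s = true → Commute (f (rx F r)) (f (rx F s)) :=
    fun hr hs h => (rx_comm hF hr hs h).map f
  have hlong : ∀ {L : List ℕ} {r : ℕ}, (∀ i ∈ L, i < 4) → F4TwoMult.wT L 47 = r →
      centralizer ({f (rx F r)} : Set G) ≤ f.range := fun {L r} hL hr => by
    rw [← hr, F4TwoMult.wT_eq hL (by norm_num), ← nw_conj hF hL (by norm_num)]
    exact cent_conj S.cent_long _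
  have g47 := S.cent_long
  have g44 := S.cent_short
  have g46 := hlong (L := [3]) (by decide) w46
  have g45 := hlong (L := [2, 3]) (by decide) w45
  have gab : centralizer ({f (rx F 47) * f (rx F 46)} : Set G) ≤ f.range := by
    have e : rx F 24 * rx F 46 * (rx F 24)⁻¹ = rx F 47 * rx F 46 := by
      have h47 : Cfsg.Agent.F4TwoMult.com 47 46 = true := by decide +kernel
      rw [rx_conj hF (by norm_num) (by norm_num) o24, t24, rp, List.map_singleton, List.prod_singleton,
        (rx_comm hF (by norm_num) (by norm_num) h47).eq]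
    rw [← map_mul, ← e]
    exact cent_conj g46 _
  have hsq : ∀ r, f (rx F r) * f (rx F r) = 1 := fun r => by rw [← map_mul, rx_sq hF, map_one]
  have hab : Commute (f (rx F 47)) (f (rx F 46)) := cm (by norm_num) (by norm_num) (by decide +kernel)
  have hm : centralizer ({f (rx F 47 * rx F 44)} : Set G) ≤ f.range := by
    refine cent_le_of_isolated (x := f (rx F 47)) (a := f (rx F 47)) (b := f (rx F 46))
      (by rw [orderOf_injective f S.inj, orderOf_rx hF (by norm_num)]) ?_ ⟨_, rfl⟩
      (fun g hg => S.uniq (orderOf_rx hF (by norm_num)) g47 hg) ?_ (hsq 47) (hsq 46) hab.eq ?_ ?_ g47 g46 gab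
    · rw [map_mul]; exact ((Commute.refl _).mul_right (cm (by norm_num) (by norm_num) c47_44)).eq
    · rintro _ ⟨p, rfl⟩ hc
      exact (((cent_mixed hF).1 (show Commute p _ from S.inj (by simpa only [map_mul] using hc))).map f).eq
    · rw [map_mul]; exact ((Commute.refl _).mul_right (cm (by norm_num) (by norm_num) c47_44)).eq
    · rw [map_mul]; exact (hab.symm.mul_right (cm (by norm_num) (by norm_num) c46_44)).eq
  have hv : centralizer ({f (rx F 39 * rx F 45)} : Set G) ≤ f.range := by
    refine cent_le_of_isolated (x := f (rx F 45)) (a := f (rx F 47)) (b := f (rx F 46))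
      (by rw [orderOf_injective f S.inj, orderOf_rx hF (by norm_num)]) ?_ ⟨_, rfl⟩
      (fun g hg => S.uniq (orderOf_rx hF (by norm_num)) g45 hg) ?_ (hsq 47) (hsq 46) hab.eq ?_ ?_ g47 g46 gab
    · rw [map_mul]; exact ((cm (by norm_num) (by norm_num) c39_45).symm.mul_right (Commute.refl _)).eq
    · rintro _ ⟨p, rfl⟩ hc
      exact (((cent_mixed hF).2 (show Commute p _ from S.inj (by simpa only [map_mul] using hc))).map f).eq
    · rw [map_mul]; exact ((cm (by norm_num) (by norm_num) c47_39).mul_right (cm (by norm_num) (by norm_num) c47_45)).eq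
    · rw [map_mul]; exact ((cm (by norm_num) (by norm_num) c46_39).mul_right (cm (by norm_num) (by norm_num) c46_45)).eq
  have good : ∀ x : FM F, orderOf x = 2 → centralizer ({f x} : Set G) ≤ f.range := by
    intro x hx
    obtain ⟨h, hh⟩ := (classes hF).2.1 x hx
    rw [show x = h⁻¹ * (h * x * h⁻¹) * h⁻¹⁻¹ by group]
    refine cent_conj ?_ _
    simp only [List.mem_cons, List.not_mem_nil, or_false] at hh
    rcases hh with e | e | e | e <;> rw [e]
    · exact g47
    · exact g44
    · exact hm
    · exact hv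
  refine eq_top_iff.2 fun g _ => ?_
  by_contra hg
  set x := g * f (rx F 47) * g⁻¹ with hx
  set m := f (rx F 47 * rx F 44) with hmdef
  have hm2 : orderOf (rx F 47 * rx F 44) = 2 := (classes hF).1 _ (by simp)
  have hmm : m * m = 1 := by rw [hmdef, ← map_mul, ← pow_two, ← hm2, pow_orderOf_eq_one, map_one]
  have hxx : x * x = 1 := by
    rw [show x * x = g * (f (rx F 47) * f (rx F 47)) * g⁻¹ by rw [hx]; group, hsq, mul_one, mul_inv_cancel]
  rcases dihedral x m hxx hmm with ⟨c, -, hc⟩ | ⟨z, -, hz1, hz2, hza, hzb, -⟩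
  · have e : c * g * f (rx F 47) * (c * g)⁻¹ = m := by rw [← hc, hx]; group
    obtain ⟨p, hp⟩ := S.uniq (orderOf_rx hF (by norm_num)) g47 (e ▸ ⟨_, rfl⟩ : c * g * f (rx F 47) * (c * g)⁻¹ ∈ f.range)
    exact ((classes hF).2.2 p).2.1 (S.inj (by rw [map_mul, map_mul, map_inv, hp, e]))
  · obtain ⟨p, rfl⟩ := hm (mem_centralizer_singleton_iff.2 hzb.eq)
    have hp2 : orderOf p = 2 := orderOf_eq_prime (p := 2) (hp := ⟨Nat.prime_two⟩)
      (S.inj (by rw [map_pow, pow_two, hz2, map_one])) fun h => hz1 (by rw [h, map_one])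
    exact hg (S.uniq (orderOf_rx hF (by norm_num)) g47 (good p hp2 (mem_centralizer_singleton_iff.2 hza.eq.symm)))

end Cfsg.Agent.FFourLocal.Ctrl
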