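import Cfsg.Agent.Lib.FFourLocal.Interface
import Cfsg.Agent.Lib.FFourLocal.Ctrl.Final
import Cfsg.Agent.Lib.Chevalley.Types.SimpleF4
import Cfsg.Agent.Lib.Involutions.ThompsonTransfer

/-!
# A group with a controlled copy of F₄(2)

The normalizer of the copy induces inner automorphisms and at most the graph one; Thompson transfer removes the
latter, and the group is F₄(2) or its automorphism group.
-/

set_option autoImplicit false
set_option linter.style.haveILetI false
set_option maxRecDepth 20000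

namespace Cfsg.Agent.FFourLocal.Ctrl

open Subgroup

universe u v

variable {F : Type u} [Field F] [Fintype F] {G : Type v} [Group G] [Finite G]
  {f : FM F →* G} (C : Control f)

/-- The normalizer of the copy. -/
abbrev NN (f : FM F →* G) : Subgroup G := normalizer (f.range : Set G)

include C

omit [Finite G] in
theorem eq_one_of_cent {g : G} (h : ∀ y, g * f y * g⁻¹ = f y) : g = 1 := by
  refine Subgroup.mem_bot.1 (C.cent_bot ▸ mem_centralizer_iff.2 ?_)
  rintro _ ⟨y, rfl⟩
  exact (mul_inv_eq_iff_eq_mul.1 (h y)).symm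

theorem norm_form {h : G} (hh : h ∈ NN f) :
    h ∈ f.range ∨ ∃ x : FM F, ∀ y, (f x)⁻¹ * h * f y * ((f x)⁻¹ * h)⁻¹ = f (sig C.card_F y) := by
  have hF := C.card_F
  have hm : ∀ y, ∃ z, f z = h * f y * h⁻¹ := fun y => (mem_normalizer_iff.1 hh (f y)).1 ⟨y, rfl⟩
  choose φ hφ using hm
  let φh : FM F →* FM F := MonoidHom.mk' φ fun a b => C.inj (by rw [map_mul, hφ, hφ, hφ, map_mul]; group)
  haveI : Finite (FM F) := Finite.of_injective f C.inj
  have hinj : Function.Injective φh := fun a b e => C.inj (by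
    have e' : f (φ a) = f (φ b) := congrArg f e
    rw [hφ, hφ] at e'
    exact mul_left_cancel (mul_right_cancel e'))
  obtain ⟨x, hx | hx⟩ := aut_form hF (MulEquiv.ofBijective φh ⟨hinj, Finite.injective_iff_surjective.1 hinj⟩)
  · refine Or.inl ⟨x, ?_⟩
    have h1 := eq_one_of_cent C (g := (f x)⁻¹ * h) fun y => by
      have e : f (φ y) = f (x * y * x⁻¹) := congrArg f (hx y)
      rw [hφ, map_mul, map_mul, map_inv] at e
      calc _ = (f x)⁻¹ * (h * f y * h⁻¹) * f x := by group
        _ = f y := by rw [e]; group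
    exact (inv_mul_eq_one.1 h1)
  · refine Or.inr ⟨x, fun y => ?_⟩
    have e : f (φ y) = f (x * sig hF y * x⁻¹) := congrArg f (hx y)
    rw [hφ, map_mul, map_mul, map_inv] at e
    calc _ = (f x)⁻¹ * (h * f y * h⁻¹) * f x := by group
      _ = _ := by rw [e]; group

omit [Finite G] in
theorem gamma_norm {γ : G} (hγ : ∀ y, γ * f y * γ⁻¹ = f (sig C.card_F y)) : γ ∈ NN f := by
  refine mem_normalizer_iff.2 fun n => ⟨fun hn => ?_, fun hn => ?_⟩
  · obtain ⟨y, rfl⟩ := hn
    exact ⟨_, (hγ y).symm⟩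
  · obtain ⟨y, hy⟩ := hn
    refine ⟨sig C.card_F y, ?_⟩
    have e := hγ (sig C.card_F y)
    rw [sig_sig, hy] at e
    exact mul_left_cancel (mul_right_cancel e)

omit [Finite G] in
theorem gamma_sq {γ : G} (hγ : ∀ y, γ * f y * γ⁻¹ = f (sig C.card_F y)) : γ * γ = 1 :=
  eq_one_of_cent C fun y => by
    calc γ * γ * f y * (γ * γ)⁻¹ = γ * (γ * f y * γ⁻¹) * γ⁻¹ := by group
      _ = f y := by rw [hγ, hγ, sig_sig]

/-- The two cosets. -/
theorem norm_mul {h : G} (hh : h ∈ NN f) : h ∈ f.range ∨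
    ∃ γ : G, (∀ y, γ * f y * γ⁻¹ = f (sig C.card_F y)) ∧ ∃ x, h = f x * γ := by
  rcases norm_form C hh with h1 | ⟨x, hx⟩
  · exact Or.inl h1
  · exact Or.inr ⟨_, hx, x, by group⟩

omit [Finite G] in
theorem gamma_unique {γ δ : G} (hγ : ∀ y, γ * f y * γ⁻¹ = f (sig C.card_F y))
    (hδ : ∀ y, δ * f y * δ⁻¹ = f (sig C.card_F y)) : γ = δ := by
  have h := eq_one_of_cent C (g := γ⁻¹ * δ) fun y => by
    calc γ⁻¹ * δ * f y * (γ⁻¹ * δ)⁻¹ = γ⁻¹ * (δ * f y * δ⁻¹) * γ := by group
      _ = f y := by rw [hδ, ← hγ]; group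
  exact inv_mul_eq_one.1 h

omit [Finite G] in
theorem mem_or {γ : G} (hγ : ∀ y, γ * f y * γ⁻¹ = f (sig C.card_F y)) (x : FM F) :
    f x * γ ∈ f.range → ∃ z, ∀ y, sig C.card_F y = z * y * z⁻¹ := fun ⟨w, hw⟩ => by
  refine ⟨x⁻¹ * w, fun y => C.inj ?_⟩
  rw [← hγ, show γ = (f x)⁻¹ * f w by rw [hw, inv_mul_cancel_left]]
  simp only [map_mul, map_inv]

omit [Finite G] in
/-- The graph automorphism is outer. -/
theorem gamma_not_mem {γ : G} (hγ : ∀ y, γ * f y * γ⁻¹ = f (sig C.card_F y)) : γ ∉ f.range := fun h => by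
  obtain ⟨z, hz⟩ := mem_or C hγ 1 (by rwa [map_one, one_mul])
  have e := hz (rx F 47)
  rw [sig_rx C.card_F (by norm_num), rho_ok.2.1] at e
  exact ((classes C.card_F).2.2 z).1 e.symm

theorem setup_norm : Setup f (NN f) where
  card_F := C.card_F
  inj := C.inj
  le := le_normalizer
  holds := fun d hd h3 g hg => by
    have key : ∀ e ∈ NN f, orderOf e = 3 → e ∈ f.range := fun e he he3 => by
      have e4 : e = (e * e) * (e * e) := by
        have := pow_orderOf_eq_one e
        rw [he3, pow_succ, pow_two] at this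
        rw [← mul_assoc, this, one_mul]
      rcases norm_mul C he with h | ⟨γ, hγ, x, hx⟩
      · exact h
      · have h2 : e * e ∈ f.range := ⟨x * sig C.card_F x, by
          calc f (x * sig C.card_F x) = f x * (γ * f x * γ⁻¹) := by rw [hγ, map_mul]
            _ = f x * γ * (f x * γ) * (γ * γ)⁻¹ := by group
            _ = e * e := by rw [gamma_sq C hγ, ← hx, inv_one, mul_one]⟩
        rw [e4]
        exact mul_mem h2 h2
    have h3' : orderOf (g * d * g⁻¹) = 3 := by rw [← MulAut.conj_apply, MulEquiv.orderOf_eq, h3]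
    exact C.move d (key d hd h3) h3 g (key _ hg h3')
  cap := fun h hh hc => by
    rcases norm_mul C hh with h1 | ⟨γ, hγ, x, rfl⟩
    · exact h1
    · refine absurd ?_ ((classes C.card_F).2.2 x⁻¹).1
      refine C.inj ?_
      have e : f x * γ * f (rx F 47) * (f x * γ)⁻¹ = f (rx F 47) := by rw [hc, mul_inv_cancel_right]
      have e2 : f x * f (rx F 44) * (f x)⁻¹ = f (rx F 47) := by
        calc f x * f (rx F 44) * (f x)⁻¹ = f x * (γ * f (rx F 47) * γ⁻¹) * (f x)⁻¹ := by
              rw [hγ, sig_rx C.card_F (by norm_num), rho_ok.2.1]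
          _ = f x * γ * f (rx F 47) * (f x * γ)⁻¹ := by group
          _ = _ := e
      simp only [map_mul, map_inv, inv_inv]
      rw [← e2]
      group
  swap := fun h hh s hs => by
    rcases norm_mul C hh with ⟨x, rfl⟩ | ⟨γ, hγ, x, rfl⟩
    · exact ⟨x, s, hs, by rw [map_mul, map_mul, map_inv]⟩
    · refine ⟨x, rho s, ?_, ?_⟩
      · rcases hs with rfl | rfl
        · exact Or.inr rho_ok.2.2.1
        · exact Or.inl rho_ok.2.1
      · have hs' : s < 48 := by rcases hs with rfl | rfl <;> norm_num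
        rw [map_mul, map_mul, map_inv, ← sig_rx C.card_F hs', ← hγ]
        group

/-- With an outer element, a subgroup of index two meets the normalizer in the copy. -/
theorem exists_index_two {γ : G} (hγ : ∀ y, γ * f y * γ⁻¹ = f (sig C.card_F y)) :
    ∃ K : Subgroup G, K.index = 2 ∧ γ ∉ K := by
  have hF := C.card_F
  have S := setup_norm C
  have hγN := gamma_norm C hγ
  have hγr := gamma_not_mem C hγ
  have hγ2 : orderOf γ = 2 := orderOf_eq_prime (p := 2) (hp := ⟨Nat.prime_two⟩)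
    (by rw [pow_two, gamma_sq C hγ]) fun h => hγr (h ▸ one_mem _)
  haveI : Fact (Nat.Prime 2) := ⟨Nat.prime_two⟩
  set T := (upos F).map f with hT
  have hU : zpowers γ ≤ normalizer (T : Set G) := zpowers_le.2 (mem_normalizer_fintype fun n hn => by
    obtain ⟨y, hy, rfl⟩ := hn
    refine ⟨sig hF y, ?_, (hγ y).symm⟩
    have hle : upos F ≤ (upos F).comap (sig hF).toMonoidHom := by
      refine (closure_le _).2 ?_
      rintro _ ⟨r, h1, h2, rfl⟩
      show sig hF (rx F r) ∈ upos F
      rw [sig_rx hF h2]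
      have h := List.all_eq_true.1 rho_ok.1 r (List.mem_range.2 h2)
      simp only [Bool.and_eq_true, Bool.or_eq_true, Bool.not_eq_true', decide_eq_false_iff_not,
        decide_eq_true_eq] at h
      exact subset_closure ⟨_, h.2.resolve_left (not_not.2 h1), rho_lt h2, rfl⟩
    exact hle hy)
  have hS0 : IsPGroup 2 ↥(T ⊔ zpowers γ) := ((upos_two hF).map f).to_sup_of_normal_left'
    (IsPGroup.of_card (n := 1) (by rw [Nat.card_zpowers, hγ2, pow_one])) hU
  have hS0N : T ⊔ zpowers γ ≤ NN f := sup_le (by rintro _ ⟨y, -, rfl⟩; exact S.mem y) (zpowers_le.2 hγN)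
  obtain ⟨P, hP0, hP⟩ := Finite.exists_le_maximal (a := T ⊔ zpowers γ)
    (p := fun P : Subgroup G => IsPGroup 2 P ∧ P ≤ NN f) ⟨hS0, hS0N⟩
  obtain ⟨hPp, hPN⟩ := hP.prop
  have hrel : ∀ a ∈ NN f, ∀ b ∈ NN f, (a * b ∈ f.range ↔ (a ∈ f.range ↔ b ∈ f.range)) := by
    intro a ha b hb
    rcases norm_mul C ha with h1 | ⟨δ, hδ, x, rfl⟩
    · rw [mul_mem_cancel_left h1]
      exact ⟨fun h => iff_of_true h1 h, fun h => h.1 h1⟩
    · rcases norm_mul C hb with h2 | ⟨ε, hε, y, rfl⟩
      · rw [mul_mem_cancel_right h2]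
        exact ⟨fun h => iff_of_true h h2, fun h => h.2 h2⟩
      · obtain rfl : δ = ε := gamma_unique C hδ hε
        have h3 : ∀ z, f z * δ ∉ f.range := fun z h =>
          gamma_not_mem C hδ ((mul_mem_cancel_left (⟨z, rfl⟩ : f z ∈ f.range)).1 h)
        refine iff_of_true ⟨x * sig hF y, ?_⟩ (iff_of_false (h3 x) (h3 y))
        calc f (x * sig hF y) = f x * (δ * f y * δ⁻¹) := by rw [map_mul, hδ]
          _ = f x * δ * f y * δ * (δ * δ)⁻¹ := by group
          _ = f x * δ * (f y * δ) := by rw [gamma_sq C hδ, inv_one, mul_one, mul_assoc _ (f y) δ]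
  have h3 : ∀ {d : FM F}, orderOf d = 3 → orderOf (f d) = 3 := fun hd => by
    rw [orderOf_injective f C.inj, hd]
  have hnorm : ∀ n ∈ normalizer (P : Set G), n ∈ NN f := by
    intro n hn
    obtain ⟨-, t24, o24⟩ : (24 < 48) ∧ F4TwoMult.tm 24 46 = [47] ∧ F4TwoMult.off 24 46 = true :=
      ⟨by norm_num, by decide +kernel, by decide +kernel⟩
    set a := f (rx F 24) with ha
    set b := f (rx F 46) with hb
    have haP : a ∈ P := hP0 (mem_sup_left (mem_map_of_mem f (subset_closure ⟨24, le_rfl, by norm_num, rfl⟩)))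
    have hbP : b ∈ P := hP0 (mem_sup_left (mem_map_of_mem f (subset_closure ⟨46, by norm_num, by norm_num, rfl⟩)))
    have hab : f (rx F 47) = b⁻¹ * (a * b * a⁻¹) := by
      rw [ha, hb, ← map_inv, ← map_inv, ← map_mul, ← map_mul, ← map_mul, rx_conj hF (by norm_num) (by norm_num) o24,
        t24, rp, List.map_singleton, List.prod_singleton, inv_mul_cancel_left]
    have hc : ∀ a ∈ P, ∀ b ∈ P, b⁻¹ * (a * b * a⁻¹) ∈ f.range := fun a ha b hb => by
      have ha' := hPN ha; have hb' := hPN hb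
      rw [hrel _ (inv_mem hb') _ (mul_mem (mul_mem ha' hb') (inv_mem ha')), inv_mem_iff,
        hrel _ (mul_mem ha' hb') _ (inv_mem ha'), inv_mem_iff, hrel _ ha' _ hb']
      tauto
    have hn1 : n * f (rx F 47) * n⁻¹ ∈ f.range := by
      rw [hab, show n * (b⁻¹ * (a * b * a⁻¹)) * n⁻¹ =
        (n * b * n⁻¹)⁻¹ * (n * a * n⁻¹ * (n * b * n⁻¹) * (n * a * n⁻¹)⁻¹) by group]
      exact hc _ ((mem_normalizer_iff.1 hn a).1 haP) _ ((mem_normalizer_iff.1 hn b).1 hbP)
    obtain ⟨p, hp⟩ := hn1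
    obtain ⟨d, hd3, hdx⟩ := inv_three hF (orderOf_rx hF (F := F) (show 47 < 48 by norm_num))
    obtain ⟨e, he3, hep⟩ := inv_three hF (x := p) (by
      rw [← orderOf_injective f C.inj, hp, ← MulAut.conj_apply, MulEquiv.orderOf_eq, orderOf_injective f C.inj,
        orderOf_rx hF (by norm_num)])
    obtain ⟨c, hcH, hcx⟩ := S.holds.ctrl (S := {f (rx F 47)}) (g := n) (S.mem d) (h3 hd3)
      (fun y hy => by obtain rfl : y = f (rx F 47) := hy; exact (hdx.map f).eq) (S.mem e) (h3 he3)
      (fun y hy => by obtain rfl : y = f (rx F 47) := hy; rw [← hp]; exact (hep.map f).eq)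
    have h1 : c⁻¹ * n ∈ NN f := S.cent_long (mem_centralizer_singleton_iff.2 (by
      have e1 := hcx _ (Set.mem_singleton _)
      calc c⁻¹ * n * f (rx F 47) = c⁻¹ * (n * f (rx F 47) * n⁻¹) * n := by group
        _ = c⁻¹ * (c * f (rx F 47) * c⁻¹) * n := by rw [e1]
        _ = f (rx F 47) * (c⁻¹ * n) := by group))
    rw [show n = c * (c⁻¹ * n) by group]
    exact mul_mem hcH h1
  obtain ⟨Q, hQ⟩ := hPp.exists_le_sylow
  have hPQ : P = (Q : Subgroup G) := by
    by_contra hne
    haveI := Q.2.isNilpotent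
    have hnc : NormalizerCondition ↥(Q : Subgroup G) := Group.normalizerCondition_of_isNilpotent
    have hne' : P.subgroupOf (Q : Subgroup G) ≠ ⊤ := fun e => hne (le_antisymm hQ (subgroupOf_eq_top.1 e))
    obtain ⟨n, hn, hnP⟩ := SetLike.exists_of_lt (hnc _ (lt_top_iff_ne_top.2 hne'))
    have hnn : (n : G) ∈ normalizer (P : Set G) := mem_normalizer_fintype fun x hx =>
      (mem_normalizer_iff.1 hn ⟨x, hQ hx⟩).1 hx
    have hP' := hP.eq_of_ge (y := P ⊔ zpowers (n : G)) ⟨Q.2.to_le (sup_le hQ (zpowers_le.2 n.2)),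
      sup_le hPN (zpowers_le.2 (hnorm _ hnn))⟩ le_sup_left
    exact hnP (show (n : G) ∈ P from hP'.symm ▸ mem_sup_right (mem_zpowers _))
  have hγP : γ ∈ P := hP0 (mem_sup_right (mem_zpowers γ))
  refine Involutions.ThompsonTransfer.exists_index_two_of_no_conj (P ⊓ f.range) ?_ γ hγ2 fun g hg => ?_
  · refine Involutions.ThompsonTransfer.index_mod_four (S := P) inf_le_left ?_ ?_
    · refine relIindex_eq_two_iff'.2 ⟨γ, hγP, fun b hb => ?_⟩
      simp only [mem_inf, mul_mem_cancel_left hγP, hb, true_and]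
      rw [hrel γ hγN b (hPN hb)]
      by_cases hb' : b ∈ f.range
      · exact Or.inr ⟨hb', fun h => hγr (h.2 hb')⟩
      · exact Or.inl ⟨iff_of_false hγr hb', hb'⟩
    · rw [hPQ]
      exact Nat.odd_iff.mpr (Nat.two_dvd_ne_zero.mp Q.not_dvd_index)
  · obtain ⟨-, p, hp⟩ := hg
    obtain ⟨d, hd3, hdγ⟩ : ∃ d : FM F, orderOf d = 3 ∧ f d * γ = γ * f d := by
      have hb : ∀ r ∈ [24, 23, 33, 14], r < 48 := by decide
      have h1 : rho 24 = 33 ∧ rho 23 = 14 ∧ rho 33 = 24 ∧ rho 14 = 23 ∧ Cfsg.Lie.chevF4.neg 24 = 23 ∧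
          Cfsg.Lie.chevF4.neg 33 = 14 := by decide +kernel
      have hc : F4TwoMult.com 24 33 = true ∧ F4TwoMult.com 24 14 = true ∧ F4TwoMult.com 23 33 = true ∧
          F4TwoMult.com 23 14 = true := by decide +kernel
      set a := rx F 24 * rx F 23
      set b := rx F 33 * rx F 14
      have ha3 : orderOf a = 3 := by
        have := three hF (F := F) (show 24 < 48 by norm_num)
        rwa [h1.2.2.2.2.1] at this
      have hb3 : orderOf b = 3 := by
        have := three hF (F := F) (show 33 < 48 by norm_num)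
        rwa [h1.2.2.2.2.2] at this
      have c33 : Commute a (rx F 33) :=
        (rx_comm hF (by norm_num) (by norm_num) hc.1).mul_left (rx_comm hF (by norm_num) (by norm_num) hc.2.2.1)
      have c14 : Commute a (rx F 14) :=
        (rx_comm hF (by norm_num) (by norm_num) hc.2.1).mul_left (rx_comm hF (by norm_num) (by norm_num) hc.2.2.2)
      have hcomm : Commute a b := c33.mul_right c14
      haveI : Fact (Nat.Prime 3) := ⟨Nat.prime_three⟩
      refine ⟨a * b, orderOf_eq_prime ?_ fun h => ?_, ?_⟩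
      · rw [hcomm.mul_pow, ← ha3, pow_orderOf_eq_one, one_mul, ha3, ← hb3, pow_orderOf_eq_one]
      · have hb' : Commute b (rx F 33) := by
          rw [eq_inv_of_mul_eq_one_right h]
          exact c33.inv_left
        have h14 : Commute (rx F 33) (rx F 14) := by
          have := ((Commute.refl (rx F 33)).inv_left).mul_left hb'
          rw [inv_mul_cancel_left] at this
          exact this.symm
        have h2 : b ^ 2 = 1 := by rw [h14.mul_pow, pow_two, pow_two, rx_sq hF, rx_sq hF, mul_one]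
        have := orderOf_dvd_of_pow_eq_one h2
        rw [hb3] at this
        norm_num at this
      · have e : sig hF (a * b) = a * b := by
          rw [map_mul, map_mul, map_mul, sig_rx hF (hb 24 (by simp)), sig_rx hF (hb 23 (by simp)),
            sig_rx hF (hb 33 (by simp)), sig_rx hF (hb 14 (by simp)), h1.1, h1.2.1, h1.2.2.1, h1.2.2.2.1]
          exact hcomm.eq.symm
        have := hγ (a * b)
        rw [e] at this
        exact (mul_inv_eq_iff_eq_mul.1 this).symm
    obtain ⟨e, he3, hep⟩ := inv_three hF (x := p) (by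
      rw [← orderOf_injective f C.inj, hp, ← MulAut.conj_apply, MulEquiv.orderOf_eq, hγ2])
    obtain ⟨c, hcH, hcx⟩ := S.holds.ctrl (S := {γ}) (g := g) (S.mem d) (h3 hd3)
      (fun y hy => by obtain rfl : y = γ := hy; exact hdγ) (S.mem e) (h3 he3)
      (fun y hy => by obtain rfl : y = γ := hy; rw [← hp]; exact (hep.map f).eq)
    refine hγr ((mem_normalizer_iff.1 hcH γ).2 ?_)
    rw [hcx γ rfl, ← hp]
    exact ⟨p, rfl⟩

/-- The normalizer is everything. -/
theorem norm_top : f.range.Normal := by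
  have hF := C.card_F
  by_cases hN : NN f ≤ f.range
  · have hH : Holds f.range := fun d hd h3 g hg => hN (C.move d hd h3 g hg)
    rw [(Setup.range_self hF C.inj hH).range_top]
    infer_instance
  obtain ⟨h, hh, hhr⟩ := Set.not_subset.1 hN
  obtain ⟨γ, hγ, -⟩ := (norm_mul C hh).resolve_left hhr
  obtain ⟨K, hK, hγK⟩ := exists_index_two C hγ
  haveI : K.Normal := normal_of_index_eq_two hK
  have hfK : ∀ x, f x ∈ K := by
    have hp := Chevalley.Types.SimpleF4.perfect F
    have hle : commutator (FM F) ≤ K.comap f := by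
      rw [commutator_def, commutator_le]
      intro a _ b _
      show f (a * b * a⁻¹ * b⁻¹) ∈ K
      simp only [map_mul, map_inv]
      rw [mul_mem_iff_of_index_two hK, mul_mem_iff_of_index_two hK, mul_mem_iff_of_index_two hK, inv_mem_iff,
        inv_mem_iff]
      tauto
    exact fun x => hle (hp ▸ mem_top x)
  set f1 := f.codRestrict K hfK with hf1
  have hr : ∀ k : K, k ∈ f1.range ↔ (k : G) ∈ f.range := fun k =>
    ⟨fun ⟨x, hx⟩ => ⟨x, congrArg Subtype.val hx⟩, fun ⟨x, hx⟩ => ⟨x, Subtype.ext hx⟩⟩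
  have hH : Holds f1.range := by
    intro d hd h3 g hg
    have h1 := C.move d ((hr d).1 hd) (by rw [Subgroup.orderOf_coe, h3]) g ((hr _).1 hg)
    rcases norm_mul C h1 with h2 | ⟨δ, hδ, x, hx⟩
    · exact (hr g).2 h2
    · obtain rfl : γ = δ := gamma_unique C hγ hδ
      exact absurd ((mul_mem_cancel_left (hfK x)).1 (hx ▸ g.2)) hγK
  have htop := (Setup.range_self (f := f1) hF (fun a b e => C.inj (congrArg Subtype.val e)) hH).range_top
  have : f.range = K := le_antisymm (by rintro _ ⟨x, rfl⟩; exact hfK x) fun k hk => (hr ⟨k, hk⟩).1 (htop ▸ mem_top _)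
  rw [this]
  infer_instance

/-- The group is F₄(2) or its automorphism group. -/
theorem iso_or_aut : Nonempty (G ≃* FM F) ∨ Nonempty (G ≃* MulAut (FM F)) := by
  have hF := C.card_F
  haveI := norm_top C
  have hall : ∀ g : G, g ∈ NN f := fun g => by
    show g ∈ normalizer (f.range : Set G)
    rw [normalizer_eq_top]; exact mem_top g
  by_cases hN : f.range = ⊤
  · exact Or.inl ⟨(MulEquiv.ofBijective f ⟨C.inj, MonoidHom.range_eq_top.1 hN⟩).symm⟩
  right
  have hγ : ∃ γ : G, ∀ y, γ * f y * γ⁻¹ = f (sig hF y) := by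
    obtain ⟨g, hg⟩ : ∃ g, g ∉ f.range := by
      by_contra h
      exact hN (eq_top_iff.2 fun g _ => by by_contra hg; exact h ⟨g, hg⟩)
    obtain ⟨γ, hγ, -⟩ := (norm_mul C (hall g)).resolve_left hg
    exact ⟨γ, hγ⟩
  obtain ⟨γ, hγ⟩ := hγ
  let e : FM F ≃* f.range := MonoidHom.ofInjective C.inj
  let act : G →* MulAut (FM F) := ((MulAut.congr e.symm).toMonoidHom).comp MulAut.conjNormal
  have hact : ∀ (g : G) (y : FM F), f (act g y) = g * f y * g⁻¹ := fun g y => by
    have h1 : ∀ z : f.range, f (e.symm z) = z := fun z => congrArg Subtype.val (e.apply_symm_apply z)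
    show f (e.symm (MulAut.conjNormal g (e y))) = _
    rw [h1, MulAut.conjNormal_apply]
    rfl
  refine ⟨MulEquiv.ofBijective act ⟨(injective_iff_map_eq_one act).2 fun g hg => eq_one_of_cent C fun y => by
    rw [← hact, hg]; rfl, fun θ => ?_⟩⟩
  obtain ⟨x, hx | hx⟩ := aut_form hF θ
  · exact ⟨f x, MulEquiv.ext fun y => C.inj (by rw [hact, hx, map_mul, map_mul, map_inv])⟩
  · refine ⟨f x * γ, MulEquiv.ext fun y => C.inj ?_⟩
    rw [hact, hx, map_mul, map_mul, map_inv, ← hγ]
    group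

end Cfsg.Agent.FFourLocal.Ctrl
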