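import Cfsg.Agent.Lib.FFourLocal.Ctrl.Code
import Cfsg.Agent.Lib.Chevalley.AltSection.WeylF4

/-!
# The centralizer of the long root involution in F₄(2)

Bruhat forms inside it, its action on Z, the stabilizer of the coset of the root 46 and the centralizer of Z.
-/

set_option autoImplicit false
set_option linter.style.haveILetI false
set_option maxRecDepth 20000

namespace Cfsg.Agent.FFourLocal.Ctrl

open Cfsg.Lie Cfsg.Agent.Chevalley Cfsg.Agent.Chevalley.Cert Cfsg.Agent.Chevalley.Group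
open Cfsg.Agent.F4TwoMult (hC tm off com w)

universe u

/-- The facts about one Weyl element. -/
noncomputable def weylChk (k : ℕ) : Bool :=
  let a := AltSection.WeylF4.app (AltSection.WeylF4.ent k).1
  !(Nat.beq (a 47) 47) || ((Zl.all fun q => Zl.contains (a q)) &&
    (!(Nat.beq (a 46) 46) || [39, 40, 44, 47].all fun q => [39, 40, 44, 47].contains (a q)) &&
    (!(Zl.all fun q => Nat.beq (a q) q) || (List.range 48).all fun r => Nat.beq (a r) r))

theorem weyl0 : ((List.range' 0 288).all weylChk) = true := by decide +kernel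

theorem weyl1 : ((List.range' 288 288).all weylChk) = true := by decide +kernel

theorem weyl2 : ((List.range' 576 288).all weylChk) = true := by decide +kernel

theorem weyl3 : ((List.range' 864 288).all weylChk) = true := by decide +kernel

theorem weyl_ok {k : ℕ} (hk : k < 1152) : weylChk k = true := by
  rcases Nat.lt_or_ge k 288 with h | h
  · exact List.all_eq_true.1 weyl0 k (List.mem_range'_1.2 ⟨by omega, by omega⟩)
  rcases Nat.lt_or_ge k 576 with h1 | h1
  · exact List.all_eq_true.1 weyl1 k (List.mem_range'_1.2 ⟨by omega, by omega⟩)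
  rcases Nat.lt_or_ge k 864 with h2 | h2
  · exact List.all_eq_true.1 weyl2 k (List.mem_range'_1.2 ⟨by omega, by omega⟩)
  · exact List.all_eq_true.1 weyl3 k (List.mem_range'_1.2 ⟨by omega, by omega⟩)

/-- A word fixing the highest root. -/
theorem weyl_spec {L : List ℕ} (hL : ∀ i ∈ L, i < 4) (h47 : w L 47 = 47) :
    (∀ q ∈ Zl, w L q ∈ Zl) ∧ (w L 46 = 46 → ∀ q ∈ [39, 40, 44, 47], w L q ∈ [39, 40, 44, 47]) ∧
      ((∀ q ∈ Zl, w L q = q) → ∀ r < 48, w L r = r) := by
  have hL' : ∀ i ∈ L, i < chevF4.rank := fun i hi => AltSection.WeylF4.rank_eq.symm ▸ hL i hi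
  obtain ⟨k, hk, he⟩ := AltSection.WeylF4.cover L hL'
  have e : ∀ r < 48, AltSection.WeylF4.app (AltSection.WeylF4.ent k).1 r = w L r := fun r hr => by
    rw [AltSection.WeylF4.app_eq (AltSection.WeylF4.ent_lt hk) (nroots.symm ▸ hr)]
    exact (StConj.actT_foldr hC (AltSection.WeylF4.ent_lt hk) (nroots.symm ▸ hr)).trans
      (he r (nroots.symm ▸ hr)).symm
  have hZ : ∀ q ∈ Zl, q < 48 := by decide
  have h := weyl_ok hk
  simp only [weylChk, e 47 (by norm_num), e 46 (by norm_num), h47, Nat.beq_refl, Bool.not_true, Bool.false_or,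
    Bool.and_eq_true, Bool.or_eq_true, List.all_eq_true, List.contains_iff_mem] at h
  refine ⟨fun q hq => e q (hZ q hq) ▸ h.1.1 q hq, fun h46 q hq => ?_, fun hfix r hr => ?_⟩
  · have h2 := h.1.2
    simp only [h46, Nat.beq_refl, Bool.not_true, Bool.false_eq_true, false_or] at h2
    exact e q (by revert q; decide) ▸ h2 q hq
  · rcases h.2 with h3 | h3
    · obtain ⟨x, hx, hne⟩ : ∃ x ∈ Zl, ¬ AltSection.WeylF4.app (AltSection.WeylF4.ent k).1 x = x := by
        simpa using h3
      exact absurd ((e x (hZ x hx)).trans (hfix x hx)) hne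
    · rw [← e r hr]; exact Nat.eq_of_beq_eq_true (h3 r (List.mem_range.2 hr))

theorem pos_keep : ((List.range' 24 24).all fun r => (List.range 128).all fun n => (List.range 7).all fun i =>
    !(n % 2 ^ i == 0) || act r n % 2 ^ (i + 1) == n % 2 ^ (i + 1)) = true := by decide +kernel

theorem pos_46 : ((List.range' 24 24).all fun r =>
    r == 46 || (off r 46 && (tm r 46).all (Zl.contains ·))) = true := by decide +kernel

theorem mem_Pl {r : ℕ} (h1 : 24 ≤ r) (h2 : r < 48) : r ∈ Pl :=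
  List.mem_append_left _ (List.mem_range'_1.2 ⟨h1, by omega⟩)

theorem notZ_ok : ((List.range 48).all fun q => Zl.contains q || (List.range 48).any fun r =>
    (Zl.all fun z => r == z || com r z) && ncs r q) = true := by decide +kernel

theorem sep46_ok : ((List.range 48).all fun b => b == 46 || b == 24 || Zl.contains b || (List.range 48).any fun r =>
    (Zl.all fun z => r == z || com r z) && com r 46 && ncs r b) = true := by decide +kernel

theorem sep24_ok : (off 25 24 && com 25 46 &&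
    match tm 25 24 with
    | [q] => Nat.blt q 48 && !Zl.contains q
    | _ => false) = true := by decide +kernel

theorem high_ok : ((List.range 128).all fun n =>
    !(n % 8 == 0) || (bits n).all fun i => [39, 40, 44, 47].contains (zi i)) = true := by decide +kernel

theorem simple_pos : ((List.range 4).all fun i =>
    decide (0 < Cfsg.Agent.Chevalley.Data.F4.tab.phi (chevF4.simple i))) = true := by decide +kernel

theorem low_ok : ((List.range 7).all fun i => (List.range 7).all fun j =>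
    i == j || !(2 ^ j % 2 ^ (i + 1) == 2 ^ i)) = true := by decide +kernel

variable (F : Type u) [Field F]

/-- The elements mapping Z into itself and fixing the low end of each code. -/
def Keep (g : FM F) : Prop :=
  ∀ n < 128, ∃ m < 128, g * zc F n * g⁻¹ = zc F m ∧ ∀ i < 7, n % 2 ^ i = 0 → m % 2 ^ (i + 1) = n % 2 ^ (i + 1)

/-- The span of the roots 39, 40, 44, 47. -/
noncomputable def Ahi : Subgroup (FM F) := Subgroup.closure {g | ∃ q ∈ [39, 40, 44, 47], g = rx F q}

variable {F} [Fintype F] (hF : Fintype.card F = 2)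
include hF

theorem upos_le_P0 : upos F ≤ P0 F :=
  (Subgroup.closure_le _).2 fun _ ⟨_, h1, h2, e⟩ => e ▸ rx_mem_P0 hF (mem_Pl h1 h2)

theorem keep_upos {g : FM F} (hg : g ∈ upos F) : Keep F g := by
  have gen : ∀ r, 24 ≤ r → r < 48 → Keep F (rx F r) := fun r h1 h2 n hn => by
    refine ⟨act r n, act_lt (mem_Pl h1 h2) n, conj_zc hF (mem_Pl h1 h2) n, fun i hi h0 => ?_⟩
    have h := List.all_eq_true.1 (List.all_eq_true.1 (List.all_eq_true.1 pos_keep r
      (List.mem_range'_1.2 ⟨h1, by omega⟩)) n (List.mem_range.2 hn)) i (List.mem_range.2 hi)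
    simpa [h0] using h
  induction hg using Subgroup.closure_induction'' with
  | mem x hx =>
    obtain ⟨r, h1, h2, rfl⟩ := hx
    exact gen r h1 h2
  | inv_mem x hx =>
    obtain ⟨r, h1, h2, rfl⟩ := hx
    rw [rx_inv hF]
    exact gen r h1 h2
  | one => exact fun n hn => ⟨n, hn, by simp, fun _ _ _ => rfl⟩
  | mul x y _ _ hx hy =>
    intro n hn
    obtain ⟨m, hm, e, h⟩ := hy n hn
    obtain ⟨k, hk, e', h'⟩ := hx m hm
    refine ⟨k, hk, by rw [← e', ← e]; group, fun i hi h0 => ?_⟩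
    have h1 := h i hi h0
    have hd : m % 2 ^ i = 0 := by
      rw [← h0, ← Nat.mod_mod_of_dvd m (pow_dvd_pow 2 (Nat.le_succ i)),
        ← Nat.mod_mod_of_dvd n (pow_dvd_pow 2 (Nat.le_succ i)), h1]
    rw [h' i hi hd, h1]

theorem norm_upos {g z : FM F} (hg : g ∈ upos F) (hz : z ∈ Zg F) : g * z * g⁻¹ ∈ Zg F := by
  obtain ⟨n, hn, rfl⟩ := (mem_Zg hF).1 hz
  obtain ⟨m, hm, e, -⟩ := keep_upos hF hg n hn
  exact (mem_Zg hF).2 ⟨m, hm, e⟩

omit hF [Fintype F] in
theorem rx_mem_Zg {q : ℕ} (hq : q ∈ Zl) : rx F q ∈ Zg F := by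
  have h := List.all_eq_true.1 idx_ok q hq
  simp only [Bool.and_eq_true, Nat.blt_eq, beq_iff_eq] at h
  exact Subgroup.subset_closure ⟨_, h.1, by rw [h.2]⟩

omit hF [Fintype F] in
theorem rp_mem_Zg {l : List ℕ} (h : ∀ q ∈ l, q ∈ Zl) : rp F l ∈ Zg F :=
  list_prod_mem fun x hx => by
    obtain ⟨q, hq, rfl⟩ := List.mem_map.1 hx
    exact rx_mem_Zg (h q hq)

theorem comm_Zg {r : ℕ} (hr : r < 48) (h : (Zl.all fun z => r == z || com r z) = true) {x : FM F}
    (hx : x ∈ Zg F) : Commute (rx F r) x := by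
  induction hx using Subgroup.closure_induction with
  | mem y hy =>
    obtain ⟨i, hi, rfl⟩ := hy
    have hmem : zi i ∈ Zl := by
      rw [show zi i = Zl[i]'hi from List.getD_eq_getElem _ _ hi]; exact List.getElem_mem _
    have := List.all_eq_true.1 h _ hmem
    simp only [Bool.or_eq_true, beq_iff_eq] at this
    rcases this with e | e
    · rw [e]
    · exact rx_comm hF hr (zi_lt i) e
  | one => exact Commute.one_right _
  | mul y z _ _ hy hz => exact hy.mul_right hz
  | inv y _ hy => exact hy.inv_right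

/-- The root elements inside Z. -/
theorem root_Zg {q : ℕ} (hq : q < 48) (h : rx F q ∈ Zg F) : q ∈ Zl := by
  have h1 := List.all_eq_true.1 notZ_ok q (List.mem_range.2 hq)
  simp only [Bool.or_eq_true, List.contains_iff_mem, List.any_eq_true, List.mem_range, Bool.and_eq_true] at h1
  rcases h1 with h1 | ⟨r, hr, h2, h3⟩
  · exact h1
  · exact absurd (comm_Zg hF hr h2 h) (not_comm hF hr hq h3)

/-- The root elements in the coset of the root 46. -/
theorem root_46 {b : ℕ} (hb : b < 48) (h : rx F b * rx F 46 ∈ Zg F) : b = 46 := by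
  have h1 := List.all_eq_true.1 sep46_ok b (List.mem_range.2 hb)
  simp only [Bool.or_eq_true, beq_iff_eq, List.contains_iff_mem, List.any_eq_true, List.mem_range,
    Bool.and_eq_true] at h1
  rcases h1 with ((h1 | rfl) | h1) | ⟨r, hr, ⟨h2, h46⟩, h3⟩
  · exact h1
  · exfalso
    have h4 := sep24_ok
    simp only [Bool.and_eq_true] at h4
    rcases ht : tm 25 24 with _ | ⟨q, _ | ⟨_, _⟩⟩ <;> simp [ht] at h4
    obtain ⟨⟨ho, hc⟩, hq, hqZ⟩ := h4
    refine hqZ (root_Zg hF hq ?_)
    have h5 := norm_upos hF (show rx F 25 ∈ upos F from Subgroup.subset_closure ⟨25, by norm_num, by norm_num, rfl⟩) h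
    rw [show rx F 25 * (rx F 24 * rx F 46) * (rx F 25)⁻¹ =
        rx F 25 * rx F 24 * (rx F 25)⁻¹ * (rx F 25 * rx F 46 * (rx F 25)⁻¹) by group,
      rx_conj hF (by norm_num) (by norm_num) ho, ht, (rx_comm hF (by norm_num) (by norm_num) hc).eq,
      mul_inv_cancel_right, rp, List.map_singleton, List.prod_singleton] at h5
    have h6 := norm_upos hF (show rx F 24 ∈ upos F from Subgroup.subset_closure ⟨24, le_rfl, by norm_num, rfl⟩)
      (mul_mem h5 (inv_mem h))
    rw [rx_inv hF 24, show rx F 24 * (rx F 24 * rx F q * rx F 46 * (rx F 24 * rx F 46)⁻¹) * rx F 24 =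
        rx F 24 * rx F 24 * rx F q * (rx F 46 * (rx F 46)⁻¹) * ((rx F 24)⁻¹ * rx F 24) by group,
      rx_sq hF, mul_inv_cancel, inv_mul_cancel, one_mul, mul_one, mul_one] at h6
    exact h6
  · have h2 := mul_mem (inv_mem (rx_mem_Zg h1)) h
    rw [inv_mul_cancel_left] at h2
    exact absurd (root_Zg hF (by norm_num) h2) (by decide)
  · refine absurd ?_ (not_comm hF hr hb h3)
    have hz := (comm_Zg hF hr h2 h).mul_right (rx_comm hF hr (by norm_num) h46).inv_right
    rwa [mul_inv_cancel_right] at hz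

/-- The positive elements form a 2-group. -/
theorem upos_two : IsPGroup 2 ↥(upos F) := by
  haveI : Fact (Nat.Prime 2) := ⟨Nat.prime_two⟩
  have hle : (upos F).map (chevF4.group F).subtype ≤ chevF4.posUnipotent F := by
    rw [Subgroup.map_le_iff_le_comap, upos, Subgroup.closure_le]
    rintro x ⟨r, h1, h2, rfl⟩
    show (rx F r : GL chevF4.Idx F) ∈ chevF4.posUnipotent F
    rw [coe_rx F h2]
    have h := List.all_eq_true.1 pos_ok r (List.mem_range.2 h2)
    simp only [h1, decide_true, beq_iff_eq] at h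
    exact Chevalley.Borel.xg_mem_U hC (nroots.symm ▸ h2) (of_decide_eq_true h.symm) 1
  haveI : Group.IsNilpotent ↥(upos F) := by
    haveI := Chevalley.Borel.isNilpotent_of_le_UT _ (hle.trans (Chevalley.Unip.U_le_UT hC))
    exact Group.nilpotent_of_mulEquiv ((upos F).equivMapOfInjective _ (chevF4.group F).subtype_injective).symm
  let P : Sylow 2 ↥(upos F) := default
  haveI : (P : Subgroup ↥(upos F)).Normal :=
    Sylow.normal_of_normalizerCondition Group.normalizerCondition_of_isNilpotent P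
  haveI := Sylow.unique_of_normal P inferInstance
  have htop : (⊤ : Subgroup ↥(upos F)) ≤ P := by
    refine le_of_eq_of_le (Subgroup.closure_closure_coe_preimage
      (k := {g : FM F | ∃ r, 24 ≤ r ∧ r < 48 ∧ g = rx F r})).symm ((Subgroup.closure_le _).2 ?_)
    rintro ⟨x, hx⟩ ⟨r, h1, h2, e⟩
    have h2' : (⟨x, hx⟩ : ↥(upos F)) ^ 2 = 1 := Subtype.ext (by
      show x ^ 2 = 1
      rw [pow_two, show x = rx F r from e, rx_sq hF])
    obtain ⟨Q, hQ⟩ := ((IsPGroup.iff_orderOf (p := 2) (G := Subgroup.zpowers (⟨x, hx⟩ : ↥(upos F)))).2 fun y => by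
      obtain ⟨k, hk, he⟩ := (Nat.dvd_prime_pow Nat.prime_two).1
        (show orderOf y ∣ 2 ^ 1 by
          rw [pow_one, ← Subgroup.orderOf_coe]
          exact (orderOf_dvd_of_mem_zpowers y.2).trans (orderOf_dvd_of_pow_eq_one h2'))
      exact ⟨k, he⟩).exists_le_sylow
    exact Subsingleton.elim Q P ▸ hQ (Subgroup.mem_zpowers _)
  intro g
  obtain ⟨k, hk⟩ := P.2 ⟨g, htop (Subgroup.mem_top g)⟩
  exact ⟨k, congrArg Subtype.val hk⟩

theorem upos_three {g : FM F} (hg : g ∈ upos F) : orderOf g ≠ 3 := by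
  haveI : Fact (Nat.Prime 2) := ⟨Nat.prime_two⟩
  intro h3
  obtain ⟨k, hk⟩ := IsPGroup.iff_orderOf.1 (upos_two hF) ⟨g, hg⟩
  rw [← Subgroup.orderOf_coe, h3] at hk
  cases k with
  | zero => norm_num at hk
  | succ k => rw [pow_succ] at hk; omega

theorem tor_eq_one (c : ℕ → Fˣ) : tor chevF4 c = 1 := by
  rw [show c = 1 from funext fun i => Units.ext ((F4TwoMult.eq_or hF (c i : F)).resolve_left (c i).ne_zero)]
  exact tor_one

theorem coe_nw {L : List ℕ} (hL : ∀ i ∈ L, i < 4) :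
    ((nw F L : FM F) : GL chevF4.Idx F) = nL hC F L := by
  haveI := F4TwoMult.charP_two hF
  rw [nw, ← Subgroup.coe_subtype, map_list_prod, List.map_map, nL]
  refine congrArg List.prod (List.map_congr_left fun i hi => ?_)
  have hs := List.all_eq_true.1 simple_lt i (List.mem_range.2 (hL i hi))
  simp only [Bool.and_eq_true, Nat.blt_eq] at hs
  simp only [Function.comp_apply, nx, Subgroup.coe_subtype, Subgroup.coe_mul, coe_rx F hs.1, coe_rx F hs.2,
    ng, inv_one, CharTwo.neg_eq]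
  rfl

/-- The Bruhat form, the torus being trivial. -/
theorem form (g : FM F) : ∃ v ∈ upos F, ∃ L : List ℕ, (∀ i ∈ L, i < 4) ∧
    ∃ u ∈ upos F, g = v * nw F L * u := by
  haveI : Finite F := Finite.of_fintype F
  have hU : ∀ {x : GL chevF4.Idx F}, x ∈ chevF4.posUnipotent F → ∃ y ∈ upos F, (y : GL chevF4.Idx F) = x := by
    intro x hx
    rw [Chevalley.Borel.U_eq_closure hC] at hx
    induction hx using Subgroup.closure_induction with
    | mem z hz =>
      obtain ⟨r, t, hr, hp, rfl⟩ := hz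
      rcases F4TwoMult.eq_or hF t with rfl | rfl
      · exact ⟨1, one_mem _, (xg_zero hC r).symm⟩
      · have hr' : r < 48 := nroots ▸ hr
        have h := List.all_eq_true.1 pos_ok r (List.mem_range.2 hr')
        simp only [hp, decide_true, beq_iff_eq, decide_eq_true_eq] at h
        exact ⟨rx F r, Subgroup.subset_closure ⟨r, h, hr', rfl⟩, coe_rx F hr'⟩
    | one => exact ⟨1, one_mem _, rfl⟩
    | mul a b _ _ ha hb =>
      obtain ⟨a', ha', rfl⟩ := ha
      obtain ⟨b', hb', rfl⟩ := hb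
      exact ⟨a' * b', mul_mem ha' hb', rfl⟩
    | inv a _ ha =>
      obtain ⟨a', ha', rfl⟩ := ha
      exact ⟨a'⁻¹, inv_mem ha', rfl⟩
  obtain ⟨b, hb, n, hn, u, hu, e⟩ := NormalForm.exists_BUN hC g.2
  obtain ⟨v, hv, h, hh, rfl⟩ := (Chevalley.Borel.mem_B_iff hC).1 hb
  obtain ⟨c, rfl⟩ := (mem_H_iff hC).1 hh
  obtain ⟨c', L, hL, rfl⟩ := (mem_N_iff hC).1 hn
  obtain ⟨v', hv', rfl⟩ := hU hv
  obtain ⟨u', hu', rfl⟩ := hU hu
  have hL4 : ∀ i ∈ L, i < 4 := fun i hi => AltSection.WeylF4.rank_eq ▸ hL i hi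
  refine ⟨v', hv', L, hL4, u', hu', Subtype.ext ?_⟩
  rw [e, tor_eq_one hF c, tor_eq_one hF c', mul_one, one_mul, Subgroup.coe_mul, Subgroup.coe_mul, coe_nw hF hL4]

/-- The form inside the centralizer of the long root involution. -/
theorem form_P0 {k : FM F} (hk : k ∈ P0 F) : ∃ v ∈ upos F, ∃ L : List ℕ, (∀ i ∈ L, i < 4) ∧ w L 47 = 47 ∧
    ∃ u ∈ upos F, k = v * nw F L * u ∧ ∀ q ∈ Zl, nw F L * rx F q * (nw F L)⁻¹ ∈ Zg F := by
  obtain ⟨v, hv, L, hL, u, hu, rfl⟩ := form hF k
  have hn : nw F L ∈ P0 F := by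
    have := mul_mem (mul_mem (inv_mem (upos_le_P0 hF hv)) hk) (inv_mem (upos_le_P0 hF hu))
    rwa [show v⁻¹ * (v * nw F L * u) * u⁻¹ = nw F L by group] at this
  have e := nw_conj hF hL (show 47 < 48 by norm_num)
  rw [Subgroup.mem_centralizer_singleton_iff.1 hn, mul_inv_cancel_right] at e
  have h47 : w L 47 = 47 := (rx_inj hF (by norm_num) (F4TwoMult.w_lt hL (by norm_num)) e).symm
  refine ⟨v, hv, L, hL, h47, u, hu, rfl, fun q hq => ?_⟩
  rw [nw_conj hF hL ((by decide : ∀ q ∈ Zl, q < 48) q hq)]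
  exact rx_mem_Zg ((weyl_spec hL h47).1 q hq)

/-- Z is normalised. -/
theorem norm_P0 {k z : FM F} (hk : k ∈ P0 F) (hz : z ∈ Zg F) : k * z * k⁻¹ ∈ Zg F := by
  obtain ⟨v, hv, L, hL, -, u, hu, rfl, hn⟩ := form_P0 hF hk
  have hn' : Zg F ≤ (Zg F).comap (MulAut.conj (nw F L)).toMonoidHom := by
    refine (Subgroup.closure_le _).2 ?_
    rintro _ ⟨i, hi, rfl⟩
    exact hn _ (by rw [show zi i = Zl[i]'hi from List.getD_eq_getElem _ _ hi]; exact List.getElem_mem _)
  have h2 := norm_upos hF hv (hn' (norm_upos hF hu hz))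
  simp only [MulEquiv.coe_toMonoidHom, MulAut.conj_apply] at h2
  convert h2 using 1
  group

/-- An element of the centralizer moving the root 46 inside its coset keeps the span of 39, 40, 44, 47. -/
theorem inv_46 {k : FM F} (hk : k ∈ P0 F) (h : k * rx F 46 * k⁻¹ * rx F 46 ∈ Zg F) {a : FM F} (ha : a ∈ Ahi F) :
    k * a * k⁻¹ ∈ Ahi F := by
  have hmul : ∀ x y : FM F, x ∈ P0 F → x * rx F 46 * x⁻¹ * rx F 46 ∈ Zg F →
      y * rx F 46 * y⁻¹ * rx F 46 ∈ Zg F → x * y * rx F 46 * (x * y)⁻¹ * rx F 46 ∈ Zg F := by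
    intro x y hx h1 h2
    have := mul_mem (norm_P0 hF hx h2) h1
    rwa [show x * (y * rx F 46 * y⁻¹ * rx F 46) * x⁻¹ * (x * rx F 46 * x⁻¹ * rx F 46) =
      x * y * rx F 46 * y⁻¹ * (rx F 46 * rx F 46) * x⁻¹ * rx F 46 by group, rx_sq hF, mul_one,
      show x * y * rx F 46 * y⁻¹ * x⁻¹ * rx F 46 = x * y * rx F 46 * (x * y)⁻¹ * rx F 46 by group] at this
  have hU : ∀ g ∈ upos F, g * rx F 46 * g⁻¹ * rx F 46 ∈ Zg F := by
    intro g hg
    have gen : ∀ r, 24 ≤ r → r < 48 → rx F r * rx F 46 * (rx F r)⁻¹ * rx F 46 ∈ Zg F := fun r h1 h2 => by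
      have h3 := List.all_eq_true.1 pos_46 r (List.mem_range'_1.2 ⟨h1, by omega⟩)
      simp only [Bool.or_eq_true, beq_iff_eq, Bool.and_eq_true, List.all_eq_true, List.contains_iff_mem] at h3
      rcases h3 with rfl | ⟨ho, ht⟩
      · rw [mul_inv_cancel_right, rx_sq hF]; exact one_mem _
      · rw [rx_conj hF h2 (by norm_num) ho]
        have := norm_upos hF (g := rx F 46) (Subgroup.subset_closure ⟨46, by norm_num, by norm_num, rfl⟩)
          (rp_mem_Zg (F := F) (l := tm r 46) ht)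
        rwa [rx_inv hF] at this
    induction hg using Subgroup.closure_induction'' with
    | mem x hx => obtain ⟨r, h1, h2, rfl⟩ := hx; exact gen r h1 h2
    | inv_mem x hx => obtain ⟨r, h1, h2, rfl⟩ := hx; rw [rx_inv hF]; exact gen r h1 h2
    | one => rw [one_mul, inv_one, mul_one, rx_sq hF]; exact one_mem _
    | mul x y hx _ h1 h2 => exact hmul x y (upos_le_P0 hF hx) h1 h2
  obtain ⟨v, hv, L, hL, h47, u, hu, rfl, -⟩ := form_P0 hF hk
  have hvP := upos_le_P0 hF (inv_mem hv)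
  have h1 := hmul _ u⁻¹ (mul_mem hvP hk) (hmul v⁻¹ (v * nw F L * u) hvP (hU _ (inv_mem hv)) h) (hU _ (inv_mem hu))
  rw [show v⁻¹ * (v * nw F L * u) * u⁻¹ = nw F L by group, nw_conj hF hL (by norm_num)] at h1
  have h46 : w L 46 = 46 := root_46 hF (F4TwoMult.w_lt hL (by norm_num)) h1
  have hUA : ∀ g ∈ upos F, Ahi F ≤ (Ahi F).comap (MulAut.conj g).toMonoidHom := by
    intro g hg
    refine (Subgroup.closure_le _).2 ?_
    rintro _ ⟨q, hq, rfl⟩
    show g * rx F q * g⁻¹ ∈ Ahi F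
    have h := List.all_eq_true.1 idx_ok q ((by decide : ∀ q ∈ [39, 40, 44, 47], q ∈ Zl) q hq)
    simp only [Bool.and_eq_true, Nat.blt_eq, beq_iff_eq] at h
    obtain ⟨m, hm, e, hlow⟩ := keep_upos hF hg (2 ^ Zl.idxOf q) (by
      exact lt_of_lt_of_eq (Nat.pow_lt_pow_right (by norm_num) h.1) (by norm_num))
    rw [zc_pow h.1, h.2] at e
    have hz : 2 ^ Zl.idxOf q % 2 ^ 2 = 0 ∧ 2 ^ Zl.idxOf q % 2 ^ (2 + 1) = 0 :=
      (by decide : ∀ q ∈ [39, 40, 44, 47], 2 ^ Zl.idxOf q % 2 ^ 2 = 0 ∧ 2 ^ Zl.idxOf q % 2 ^ (2 + 1) = 0) q hq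
    have hm8 := (hlow 2 (by norm_num) hz.1).trans hz.2
    have h8 := List.all_eq_true.1 high_ok m (List.mem_range.2 hm)
    simp only [show m % 8 = 0 from hm8, beq_self_eq_true, Bool.not_true, Bool.false_or, List.all_eq_true,
      List.contains_iff_mem] at h8
    rw [e, zc, rp, List.map_map]
    refine list_prod_mem fun x hx => ?_
    obtain ⟨i, hi, rfl⟩ := List.mem_map.1 hx
    exact Subgroup.subset_closure ⟨_, h8 i hi, rfl⟩
  have hnA : Ahi F ≤ (Ahi F).comap (MulAut.conj (nw F L)).toMonoidHom := by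
    refine (Subgroup.closure_le _).2 ?_
    rintro _ ⟨q, hq, rfl⟩
    show nw F L * rx F q * (nw F L)⁻¹ ∈ Ahi F
    rw [nw_conj hF hL ((by decide : ∀ q ∈ [39, 40, 44, 47], q < 48) q hq)]
    exact Subgroup.subset_closure ⟨_, (weyl_spec hL h47).2.1 h46 q hq, rfl⟩
  have h2 := hUA v hv (hnA (hUA u hu ha))
  rw [show v * nw F L * u * a * (v * nw F L * u)⁻¹ = v * (nw F L * (u * a * u⁻¹) * (nw F L)⁻¹) * v⁻¹ by group]
  exact h2

/-- The centralizer of Z has no element of order three. -/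
theorem cent_Zg {d : FM F} (hd : ∀ z ∈ Zg F, d * z = z * d) : orderOf d ≠ 3 := by
  have hdP : d ∈ P0 F := Subgroup.mem_centralizer_singleton_iff.2 (hd _ (rx_mem_Zg (by decide)))
  obtain ⟨v, hv, L, hL, h47, u, hu, rfl, -⟩ := form_P0 hF hdP
  have hfix : ∀ q ∈ Zl, w L q = q := by
    intro q hq
    have hi := List.all_eq_true.1 idx_ok q hq
    simp only [Bool.and_eq_true, Nat.blt_eq, beq_iff_eq] at hi
    obtain ⟨hi, hq'⟩ := hi
    have hj := List.all_eq_true.1 idx_ok _ ((weyl_spec hL h47).1 q hq)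
    simp only [Bool.and_eq_true, Nat.blt_eq, beq_iff_eq] at hj
    obtain ⟨hj, hj'⟩ := hj
    set i := Zl.idxOf q
    set j := Zl.idxOf (w L q)
    have h128 : ∀ a < 7, 2 ^ a < 128 := fun a ha => lt_of_lt_of_eq (Nat.pow_lt_pow_right (by norm_num) ha) (by norm_num)
    obtain ⟨m, hm, em, hml⟩ := keep_upos hF (inv_mem hu) (2 ^ i) (h128 i hi)
    obtain ⟨k, hk, ek, hkl⟩ := keep_upos hF (inv_mem hv) m hm
    have hlow : (2 ^ i) % 2 ^ i = 0 := Nat.mod_self _
    have h1 := hml i hi hlow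
    have hm0 : m % 2 ^ i = 0 := by
      rw [← Nat.mod_mod_of_dvd m (pow_dvd_pow 2 (Nat.le_succ i)), h1,
        Nat.mod_mod_of_dvd _ (pow_dvd_pow 2 (Nat.le_succ i)), hlow]
    have h2 := (hkl i hi hm0).trans h1
    rw [Nat.mod_eq_of_lt (Nat.pow_lt_pow_right (by norm_num) (Nat.lt_succ_self i))] at h2
    have e : zc F k = zc F (2 ^ j) := by
      rw [zc_pow hj, hj', ← nw_conj hF hL ((by decide : ∀ q ∈ Zl, q < 48) q hq), ← hq', ← zc_pow hi, ← ek]
      have hdm := hd (zc F m) ((mem_Zg hF).2 ⟨m, hm, rfl⟩)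
      calc v⁻¹ * zc F m * v⁻¹⁻¹ = v⁻¹ * (v * nw F L * u * zc F m * (v * nw F L * u)⁻¹) * v := by
            rw [hdm, mul_inv_cancel_right, inv_inv]
        _ = nw F L * (u * zc F m * u⁻¹) * (nw F L)⁻¹ := by group
        _ = _ := by rw [← em]; group
    rw [zc_inj hF hk (h128 j hj) e] at h2
    have h := List.all_eq_true.1 (List.all_eq_true.1 low_ok i (List.mem_range.2 hi)) j (List.mem_range.2 hj)
    simp only [h2, beq_self_eq_true, Bool.not_true, Bool.or_false, beq_iff_eq] at h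
    rw [← hj', ← h, hq']
  have hid := (weyl_spec hL h47).2.2 hfix
  have hn : nw F L = 1 := by
    have hL' : ∀ i ∈ L, i < chevF4.rank := fun i hi => AltSection.WeylF4.rank_eq.symm ▸ hL i hi
    obtain ⟨c, hc⟩ := Chevalley.Weyl.exists_tor_of_pos (F := F) hC hL' fun i hi => by
      have hs := List.all_eq_true.1 simple_lt i (List.mem_range.2 (AltSection.WeylF4.rank_eq ▸ hi))
      simp only [Bool.and_eq_true, Nat.blt_eq] at hs
      rw [show wL chevF4 L (chevF4.simple i) = chevF4.simple i from hid _ hs.1]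
      have h24 := List.all_eq_true.1 simple_pos i (List.mem_range.2 (AltSection.WeylF4.rank_eq ▸ hi))
      exact of_decide_eq_true h24
    refine Subtype.ext ?_
    rw [coe_nw hF hL, hc, tor_eq_one hF]
    rfl
  rw [hn, mul_one]
  exact upos_three hF (mul_mem hv hu)

end Cfsg.Agent.FFourLocal.Ctrl
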