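/-!
# Tables for the elementary subgroup of order 2⁷

Images of the seven basis codes, the orbit of the short root, orbit trees of the stabilizers and of the hyperplanes.
-/

set_option autoImplicit false

namespace Cfsg.Agent.FFourLocal.Ctrl

/-- Images of the basis codes. -/
def actTab : List (List Nat) :=
  [[], [], [], [], [], [], [], [], [], [], [], [], [], [], [1, 3, 4, 8, 16, 48, 64], [], [], [], [], [], [1,
  2, 6, 8, 24, 32, 64], [], [1, 2, 4, 76, 16, 32, 64], [], [1, 2, 4, 8, 16, 32, 64], [1, 2, 76, 8, 16, 32,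
  64], [1, 2, 4, 8, 16, 32, 64], [1, 6, 4, 24, 16, 32, 64], [1, 10, 20, 8, 16, 32, 64], [1, 2, 4, 8, 16, 32,
  64], [1, 82, 4, 8, 16, 32, 64], [1, 2, 4, 8, 16, 32, 64], [1, 2, 4, 8, 16, 32, 64], [3, 2, 4, 8, 48, 32,
  64], [5, 2, 4, 40, 16, 32, 64], [9, 2, 36, 8, 16, 32, 64], [1, 2, 4, 8, 16, 32, 64], [17, 34, 4, 8, 16, 32,
  64], [1, 2, 4, 8, 16, 32, 64], [1, 2, 4, 8, 16, 32, 64], [1, 2, 4, 8, 16, 32, 64], [97, 2, 4, 8, 16, 32,
  64], [1, 2, 4, 8, 16, 32, 64], [1, 2, 4, 8, 16, 32, 64], [1, 2, 4, 8, 16, 32, 64], [1, 2, 4, 8, 16, 32, 64],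
  [1, 2, 4, 8, 16, 32, 64], [1, 2, 4, 8, 16, 32, 64]]

/-- The codes conjugate to the short root, as a mask. -/
def omN : Nat := 199915652551776744261003987845882515454

/-- The orbit of the short root. -/
def omTree : List (Nat × Nat) :=
  [(48,14), (16,33), (56,20), (24,20), (40,27), (124,22), (8,27), (92,22), (108,22), (52,25), (118,20),
  (76,22), (20,25), (86,20), (36,25), (110,20), (62,20), (114,27), (38,30), (103,14), (4,25), (78,20),
  (30,20), (82,27), (6,30), (87,14), (122,27), (127,14), (42,22), (47,14), (34,30), (99,14), (55,14),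
  (101,33), (79,35), (7,41), (90,27), (10,22), (31,14), (2,30), (83,14), (117,33), (93,20), (107,14), (91,34),
  (59,22), (45,33), (11,34), (51,14), (97,33), (3,41), (21,33), (61,20), (77,35), (5,41), (113,33), (121,34),
  (25,22), (105,33), (9,34), (17,33), (1,41)]

/-- The stabilizer steps. -/
def steps : List (Nat × List (Nat × Nat)) :=
  [
    (1, [(3,33), (5,34), (9,35), (17,37), (97,41), (7,27), (11,28), (83,30), (51,37), (99,41), (2,14),
      (77,25), (21,28), (45,35), (101,41), (25,27), (105,41), (113,41), (79,25), (31,28), (87,30), (47,35),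
      (55,37), (103,41), (6,14), (91,30), (59,37), (107,41), (10,14), (82,14), (34,14), (114,14), (93,27),
      (61,35), (117,41), (121,41), (127,37), (78,14), (30,14), (86,14), (62,14), (38,14), (118,14), (4,20),
      (90,14), (42,14), (122,14), (110,14), (76,20), (20,20), (92,20), (52,20), (36,20), (124,20), (108,20),
      (8,22), (24,22), (56,22), (40,22), (16,20), (48,20), (32,14)]),
    (32, [(48,14), (56,20), (40,27), (124,22), (108,22), (52,25), (118,20), (36,25), (110,20), (62,20),
      (114,27), (38,30), (103,14), (122,27), (127,14), (42,22), (47,14), (34,30), (99,14), (55,14), (101,20),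
      (107,14), (117,20), (59,22), (45,20), (51,14), (61,20), (105,22), (121,22), (113,20), (97,14)]),
    (2, [(6,27), (10,28), (82,30), (78,25), (30,28), (86,30), (4,20), (90,30), (76,20), (20,20), (92,20),
      (8,22), (24,22), (16,20)]),
    (16, [(24,20), (92,22), (20,25), (86,20), (30,20), (90,22), (82,20)]),
    (4, [(76,25), (8,22)]),
    (8, [(76,22)])]

/-- The orbit of the hyperplanes. -/
def funTree : List (Nat × Nat × Nat) :=
  [(3,14,1), (2,33,3), (7,20,3), (6,20,2), (5,27,7), (15,22,7), (4,27,6), (14,22,6), (13,22,5), (11,25,15),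
  (27,20,15), (12,22,4), (10,25,14), (26,20,14), (9,25,13), (29,20,13), (31,20,11), (19,27,27), (25,30,27),
  (57,14,27), (8,25,12), (28,20,12), (30,20,10), (18,27,26), (24,30,26), (58,14,26), (23,27,29), (63,14,29),
  (21,22,29), (61,14,31), (17,30,19), (49,14,19), (59,14,25), (41,33,57), (60,35,57), (56,41,57), (22,27,28),
  (20,22,28), (62,14,30), (16,30,18), (50,14,18), (43,33,58), (46,20,58), (53,14,23), (54,34,63), (55,22,63),
  (45,33,61), (52,34,61), (51,14,17), (33,33,49), (48,41,49), (42,33,59), (47,20,59), (44,35,41), (40,41,41),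
  (35,33,50), (39,34,46), (38,22,46), (37,33,53), (36,34,45), (34,33,51), (32,41,33)]

end Cfsg.Agent.FFourLocal.Ctrl
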