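import Cfsg.Agent.Lib.FFourLocal.Ctrl.Roots
import Cfsg.Agent.Lib.FFourLocal.Ctrl.CodeData

/-!
# The elementary subgroup Z of the centralizer of the long root involution

`Z` is spanned by the roots 29, 36, 38, 39, 40, 44, 47; codes of its elements are bit masks below 128.
-/

set_option autoImplicit false
set_option maxRecDepth 20000

namespace Cfsg.Agent.FFourLocal.Ctrl

open Cfsg.Lie Cfsg.Agent.F4TwoMult

universe u

/-- The roots of Z. -/
def Zl : List ℕ := [29, 36, 38, 39, 40, 44, 47]

/-- The root of a position. -/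
def zi (i : ℕ) : ℕ := Zl.getD i 47

/-- The positions of a code. -/
def bits (n : ℕ) : List ℕ := (List.range 7).filter n.testBit

/-- The sum of codes. -/
def xsum (l : List ℕ) : ℕ := l.foldr (· ^^^ ·) 0

/-- The image of a code under a root element. -/
def act (r n : ℕ) : ℕ := xsum ((bits n).map fun i => (actTab.getD r []).getD i 0)

/-- The root elements generating the centralizer of the long root involution. -/
def Pl : List ℕ := List.range' 24 24 ++ [14, 20, 22]

/-- The root pairs inside Z commute; the table of images is right. -/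
theorem com_ok : ((List.range 7).all fun i => (List.range 7).all fun j => i == j || com (zi i) (zi j)) = true := by
  decide +kernel

theorem act_ok : (Pl.all fun r => (List.range 7).all fun i => Nat.blt r 48 && Nat.blt ((actTab.getD r []).getD i 0) 128 &&
    (if r == zi i then (actTab.getD r []).getD i 0 == 2 ^ i
      else off r (zi i) && (tm r (zi i)).all (Zl.contains ·) &&
        (actTab.getD r []).getD i 0 == xsum (2 ^ i :: (tm r (zi i)).map fun q => 2 ^ Zl.idxOf q))) = true := by
  decide +kernel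

theorem Pl_com : (Pl.all fun r => r == 47 || com r 47) = true := by decide +kernel

theorem zi_lt : ∀ i, zi i < 48
  | 0 | 1 | 2 | 3 | 4 | 5 | 6 => by decide
  | _ + 7 => by simp [zi, Zl]

theorem bits_pow : ((List.range 7).all fun i => bits (2 ^ i) == [i] && zi (Zl.idxOf (zi i)) == zi i) = true := by
  decide +kernel

theorem idx_ok : (Zl.all fun q => Nat.blt (Zl.idxOf q) 7 && zi (Zl.idxOf q) == q) = true := by decide +kernel

theorem xsum_lt {l : List ℕ} (h : ∀ a ∈ l, a < 128) : xsum l < 128 := by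
  induction l with
  | nil => norm_num [xsum]
  | cons a l ih =>
    exact Nat.xor_lt_two_pow (n := 7) (h a List.mem_cons_self) (ih fun b hb => h b (List.mem_cons_of_mem a hb))

theorem act_lt {r : ℕ} (hr : r ∈ Pl) (n : ℕ) : act r n < 128 := by
  refine xsum_lt fun a ha => ?_
  obtain ⟨i, hi, rfl⟩ := List.mem_map.1 ha
  have h := List.all_eq_true.1 (List.all_eq_true.1 act_ok r hr) i (List.mem_filter.1 hi).1
  simp only [Bool.and_eq_true, Nat.blt_eq] at h
  exact h.1.2

theorem mem_Pl_lt {r : ℕ} (hr : r ∈ Pl) : r < 48 := by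
  have h := List.all_eq_true.1 (List.all_eq_true.1 act_ok r hr) 0 (by decide)
  simp only [Bool.and_eq_true, Nat.blt_eq] at h
  exact h.1.1

variable (F : Type u) [Field F]

/-- The element of a code. -/
noncomputable def zc (n : ℕ) : FM F := rp F ((bits n).map zi)

/-- The subgroup Z. -/
noncomputable def Zg : Subgroup (FM F) := Subgroup.closure {g | ∃ i < 7, g = rx F (zi i)}

/-- The centralizer of the long root involution. -/
noncomputable def P0 : Subgroup (FM F) := Subgroup.centralizer {rx F 47}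

variable {F} [Fintype F] (hF : Fintype.card F = 2)
include hF

theorem rx_mem_P0 {r : ℕ} (hr : r ∈ Pl) : rx F r ∈ P0 F := by
  rw [P0, Subgroup.mem_centralizer_singleton_iff]
  have h := List.all_eq_true.1 Pl_com r hr
  simp only [Bool.or_eq_true, beq_iff_eq] at h
  rcases h with rfl | h
  · rfl
  · exact (rx_comm hF (mem_Pl_lt hr) (by norm_num) h).eq

theorem zi_comm {i j : ℕ} (hi : i < 7) (hj : j < 7) : Commute (rx F (zi i)) (rx F (zi j)) := by
  have h := List.all_eq_true.1 (List.all_eq_true.1 com_ok i (List.mem_range.2 hi)) j (List.mem_range.2 hj)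
  simp only [Bool.or_eq_true, beq_iff_eq] at h
  rcases h with rfl | h
  · exact Commute.refl _
  · exact rx_comm hF (zi_lt i) (zi_lt j) h

theorem zc_xor (a b : ℕ) : zc F (a ^^^ b) = zc F a * zc F b := by
  unfold zc bits
  have hl : ∀ i ∈ List.range 7, i < 7 := fun i => List.mem_range.1
  revert hl
  generalize List.range 7 = l
  intro hl
  induction l with
  | nil => simp [rp]
  | cons i l ih =>
    have ih := ih fun j hj => hl j (List.mem_cons_of_mem i hj)
    have hc : Commute (rx F (zi i)) (rp F ((l.filter a.testBit).map zi)) := by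
      refine Commute.list_prod_right _ _ fun x hx => ?_
      obtain ⟨_, hq, rfl⟩ := List.mem_map.1 hx
      obtain ⟨j, hj, rfl⟩ := List.mem_map.1 hq
      exact zi_comm hF (hl i List.mem_cons_self) (hl j (List.mem_cons_of_mem i (List.mem_filter.1 hj).1))
    simp only [rp] at ih hc ⊢
    rw [List.filter_cons, List.filter_cons, List.filter_cons, Nat.testBit_xor]
    cases a.testBit i <;> cases b.testBit i <;>
      simp only [Bool.xor_false, Bool.xor_true, Bool.not_false, Bool.not_true, Bool.false_eq_true, if_false,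
        if_true, List.map_cons, List.prod_cons, ih]
    · rw [← mul_assoc, ← mul_assoc, hc.eq]
    · rw [mul_assoc]
    · rw [mul_assoc, ← mul_assoc (List.prod _) (rx F (zi i)), ← hc.eq, ← mul_assoc, ← mul_assoc, rx_sq hF, one_mul]

omit hF [Fintype F] in
theorem zc_pow {i : ℕ} (hi : i < 7) : zc F (2 ^ i) = rx F (zi i) := by
  have h := List.all_eq_true.1 bits_pow i (List.mem_range.2 hi)
  simp only [Bool.and_eq_true, beq_iff_eq] at h
  simp [zc, h.1, rp]

omit hF [Fintype F] in
theorem zc_zero : zc F 0 = 1 := by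
  simp [zc, rp, show bits 0 = [] by decide]

theorem zc_xsum (l : List ℕ) : zc F (xsum l) = (l.map (zc F)).prod := by
  induction l with
  | nil => simp [xsum, zc_zero]
  | cons a l ih =>
    rw [List.map_cons, List.prod_cons, ← ih]
    exact zc_xor hF a (xsum l)

theorem zc_comm (a b : ℕ) : zc F a * zc F b = zc F b * zc F a := by
  rw [← zc_xor hF, ← zc_xor hF, Nat.xor_comm]

theorem zc_sq (a : ℕ) : zc F a * zc F a = 1 := by rw [← zc_xor hF, Nat.xor_self, zc_zero]

theorem mem_Zg {g : FM F} : g ∈ Zg F ↔ ∃ n < 128, g = zc F n := by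
  constructor
  · intro h
    induction h using Subgroup.closure_induction with
    | mem x hx =>
      obtain ⟨i, hi, rfl⟩ := hx
      exact ⟨2 ^ i, lt_of_lt_of_eq (Nat.pow_lt_pow_right (by norm_num) hi) (by norm_num), (zc_pow hi).symm⟩
    | one => exact ⟨0, by norm_num, zc_zero.symm⟩
    | mul x y _ _ hx hy =>
      obtain ⟨a, ha, rfl⟩ := hx
      obtain ⟨b, hb, rfl⟩ := hy
      exact ⟨a ^^^ b, Nat.xor_lt_two_pow (n := 7) ha hb, (zc_xor hF a b).symm⟩
    | inv x _ hx =>
      obtain ⟨a, ha, rfl⟩ := hx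
      exact ⟨a, ha, inv_eq_of_mul_eq_one_right (zc_sq hF a)⟩
  · rintro ⟨n, -, rfl⟩
    refine list_prod_mem fun x hx => ?_
    obtain ⟨_, hq, rfl⟩ := List.mem_map.1 hx
    obtain ⟨i, hi, rfl⟩ := List.mem_map.1 hq
    exact Subgroup.subset_closure ⟨i, List.mem_range.1 (List.mem_filter.1 hi).1, rfl⟩

theorem conj_zc {r : ℕ} (hr : r ∈ Pl) (n : ℕ) : rx F r * zc F n * (rx F r)⁻¹ = zc F (act r n) := by
  rw [act, zc_xsum hF, List.map_map]
  show MulAut.conj (rx F r) (zc F n) = _
  rw [zc, rp, List.map_map, map_list_prod, List.map_map]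
  refine congrArg List.prod (List.map_congr_left fun i hi => ?_)
  have hi7 := (List.mem_filter.1 hi).1
  have h := List.all_eq_true.1 (List.all_eq_true.1 act_ok r hr) i hi7
  simp only [Bool.and_eq_true, Nat.blt_eq] at h
  simp only [Function.comp_apply, MulAut.conj_apply]
  by_cases e : r = zi i
  · rw [if_pos (beq_iff_eq.2 e)] at h
    rw [beq_iff_eq.1 h.2, zc_pow (List.mem_range.1 hi7), e, mul_inv_cancel_right]
  · rw [if_neg (by simpa using e)] at h
    simp only [Bool.and_eq_true, beq_iff_eq, List.all_eq_true] at h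
    obtain ⟨-, ⟨ho, ht⟩, he⟩ := h
    rw [he, zc_xsum hF, List.map_cons, List.prod_cons, zc_pow (List.mem_range.1 hi7),
      rx_conj hF (mem_Pl_lt hr) (zi_lt i) ho, rp, List.map_map]
    refine congrArg _ (congrArg List.prod (List.map_congr_left fun q hq => ?_))
    have hq' := List.all_eq_true.1 idx_ok q (List.elem_iff.1 (ht q hq))
    simp only [Bool.and_eq_true, Nat.blt_eq, beq_iff_eq] at hq'
    simp only [Function.comp_apply]
    rw [zc_pow hq'.1, hq'.2]

/-! ### Orbits -/

omit hF in
/-- A tree of images under admissible root elements. -/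
def treeOK (good : ℕ → Bool) : List ℕ → List (ℕ × ℕ) → Bool
  | _, [] => true
  | seen, (m, r) :: l =>
    good r && Pl.contains r && Nat.blt m 128 && act r (act r m) == m && seen.contains (act r m) &&
      treeOK good (m :: seen) l

omit hF in
theorem tree {Q : ℕ → Prop} {good : ℕ → Bool}
    (hQ : ∀ r m, r ∈ Pl → good r = true → act r (act r m) = m → Q (act r m) → Q m) :
    ∀ {l : List (ℕ × ℕ)} {seen : List ℕ}, (∀ m ∈ seen, Q m) → treeOK good seen l = true →
      ∀ m ∈ seen ++ l.map Prod.fst, Q m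
  | [], seen, hs, _, m, hm => hs m (by simpa using hm)
  | (a, r) :: l, seen, hs, h, m, hm => by
    simp only [treeOK, Bool.and_eq_true, beq_iff_eq, List.contains_iff_mem] at h
    obtain ⟨⟨⟨⟨⟨hg, hP⟩, -⟩, hinv⟩, hsn⟩, hl⟩ := h
    refine tree hQ (seen := a :: seen) (fun x hx => ?_) hl m (by simp at hm ⊢; tauto)
    rcases List.mem_cons.1 hx with rfl | hx
    · exact hQ r x hP hg hinv (hs _ hsn)
    · exact hs x hx

omit hF in
theorem om_ok : treeOK (fun _ => true) [32] omTree = true ∧
    ((List.range 128).all fun m => omN.testBit m == (32 :: omTree.map Prod.fst).contains m) = true ∧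
    ((List.range 128).all fun m => m == 0 || m == 64 || omN.testBit m || omN.testBit (m ^^^ 64)) = true :=
  ⟨by decide +kernel, by decide +kernel, by decide +kernel⟩

/-- The short class of Z. -/
theorem om_conj {m : ℕ} (hm : m < 128) (h : omN.testBit m = true) :
    ∃ p ∈ P0 F, p * rx F 44 * p⁻¹ = zc F m := by
  have h1 := List.all_eq_true.1 om_ok.2.1 m (List.mem_range.2 hm)
  rw [h, beq_iff_eq] at h1
  refine tree (Q := fun m => ∃ p ∈ P0 F, p * rx F 44 * p⁻¹ = zc F m) ?_ ?_ om_ok.1 m
    (by simpa using List.contains_iff_mem.1 h1.symm)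
  · rintro r m hr - hinv ⟨p, hp, e⟩
    refine ⟨rx F r * p, mul_mem (rx_mem_P0 hF hr) hp, ?_⟩
    have := conj_zc hF hr (act r m)
    rw [hinv, ← e] at this
    rw [← this]
    group
  · intro m hm
    rw [List.mem_singleton.1 hm]
    exact ⟨1, one_mem _, by rw [show (32 : ℕ) = 2 ^ 5 by norm_num, zc_pow (by norm_num)]; simp [zi, Zl]⟩

theorem zc_eq_one {n : ℕ} (hn : n < 128) (h : zc F n = 1) : n = 0 := by
  have h64 : zc F 64 = rx F 47 := by
    rw [show (64 : ℕ) = 2 ^ 6 by norm_num, zc_pow (by norm_num)]; rfl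
  have h1 := List.all_eq_true.1 om_ok.2.2 n (List.mem_range.2 hn)
  simp only [Bool.or_eq_true, beq_iff_eq] at h1
  rcases h1 with ((h1 | rfl) | h1) | h1
  · exact h1
  · exact absurd (h64 ▸ h) (rx_ne_one (by norm_num))
  · obtain ⟨p, -, e⟩ := om_conj hF hn h1
    rw [h, conj_eq_one_iff] at e
    exact absurd e (rx_ne_one (by norm_num))
  · obtain ⟨p, hp, e⟩ := om_conj hF (Nat.xor_lt_two_pow (n := 7) hn (by norm_num)) h1
    rw [zc_xor hF, h, one_mul, h64] at e
    have e2 : p * rx F 44 * p⁻¹ = p * rx F 47 * p⁻¹ := by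
      rw [e, (Subgroup.mem_centralizer_singleton_iff.1 hp), mul_inv_cancel_right]
    exact absurd (rx_inj hF (by norm_num) (by norm_num) (mul_left_cancel (mul_right_cancel e2))) (by norm_num)

theorem zc_inj {a b : ℕ} (ha : a < 128) (hb : b < 128) (h : zc F a = zc F b) : a = b := by
  have := zc_eq_one hF (Nat.xor_lt_two_pow (n := 7) ha hb) (by rw [zc_xor hF, h, zc_sq hF])
  exact Nat.eq_of_testBit_eq fun i => by
    have := congrArg (fun x => x.testBit i) this
    simpa [Nat.testBit_xor] using this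

theorem card_Zg : Nat.card (Zg F) = 128 := by
  rw [← Nat.card_fin 128]
  refine (Nat.card_eq_of_bijective (fun n : Fin 128 => (⟨zc F n, (mem_Zg hF).2 ⟨n, n.2, rfl⟩⟩ : Zg F))
    ⟨fun a b h => Fin.ext (zc_inj hF a.2 b.2 (congrArg Subtype.val h)), fun g => ?_⟩).symm
  obtain ⟨n, hn, e⟩ := (mem_Zg hF).1 g.2
  exact ⟨⟨n, hn⟩, Subtype.ext e.symm⟩

/-! ### The stabilizer steps and the hyperplanes -/

omit hF in
/-- The codes fixed before a step. -/
def fixd (k : ℕ) : List ℕ := 64 :: (steps.take k).map Prod.fst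

omit hF in
/-- The span of a list. -/
def span : List ℕ → List ℕ
  | [] => [0]
  | a :: l => span l ++ (span l).map (a ^^^ ·)

omit hF in
/-- A code that may be the image of the next basis code. -/
def cand (k m : ℕ) : Bool :=
  omN.testBit m && (span (fixd k)).all fun c =>
    !omN.testBit ((steps.getD k (0, [])).1 ^^^ c) || omN.testBit (m ^^^ c)

omit hF in
theorem steps_ok : ((List.range 6).all fun k =>
    let s := steps.getD k (0, [])
    treeOK (fun r => (fixd k).all fun f => act r f == f) [s.1] s.2 &&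
      Nat.blt s.1 128 && omN.testBit s.1 &&
      (List.range 128).all fun m => !cand k m || (s.1 :: s.2.map Prod.fst).contains m) = true := by decide +kernel

theorem stab_step {k m : ℕ} (hk : k < 6) (hm : m < 128) (hc : cand k m = true) :
    ∃ p ∈ P0 F, (∀ f ∈ fixd k, p * zc F f * p⁻¹ = zc F f) ∧
      p * zc F (steps.getD k (0, [])).1 * p⁻¹ = zc F m := by
  have h := List.all_eq_true.1 steps_ok k (List.mem_range.2 hk)
  simp only [Bool.and_eq_true] at h
  have h1 := List.all_eq_true.1 h.2 m (List.mem_range.2 hm)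
  simp only [hc, Bool.not_true, Bool.false_or] at h1
  refine tree (Q := fun m => ∃ p ∈ P0 F, (∀ f ∈ fixd k, p * zc F f * p⁻¹ = zc F f) ∧
      p * zc F (steps.getD k (0, [])).1 * p⁻¹ = zc F m) ?_ ?_ h.1.1.1 m (by simpa using List.contains_iff_mem.1 h1)
  · rintro r m hr hg hinv ⟨p, hp, hf, e⟩
    refine ⟨rx F r * p, mul_mem (rx_mem_P0 hF hr) hp, fun f hfm => ?_, ?_⟩
    · have := conj_zc hF hr f
      rw [beq_iff_eq.1 (List.all_eq_true.1 hg f hfm)] at this
      calc rx F r * p * zc F f * (rx F r * p)⁻¹ = rx F r * (p * zc F f * p⁻¹) * (rx F r)⁻¹ := by group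
        _ = zc F f := by rw [hf f hfm, this]
    · have := conj_zc hF hr (act r m)
      rw [hinv, ← e] at this
      rw [← this]
      group
  · intro m hm
    rw [List.mem_singleton.1 hm]
    exact ⟨1, one_mem _, fun f _ => by simp, by simp⟩

omit hF in
/-- The value of a functional. -/
def dot (φ n : ℕ) : ℕ := (bits (φ &&& n)).length % 2

omit hF in
/-- A tree of hyperplanes. -/
def funOK : List ℕ → List (ℕ × ℕ × ℕ) → Bool
  | _, [] => true
  | seen, (φ, r, ψ) :: l =>
    Pl.contains r && seen.contains ψ && ((List.range 128).all fun n => dot φ (act r n) == dot ψ n) &&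
      funOK (φ :: seen) l

omit hF in
theorem fun_ok : funOK [1] funTree = true ∧
    ((List.range 64).all fun φ => φ == 0 || (1 :: funTree.map Prod.fst).contains φ) = true ∧
    ((List.range 128).all fun n => dot 1 n == n % 2) = true :=
  ⟨by decide +kernel, by decide +kernel, by decide +kernel⟩

/-- The hyperplanes over the long root are conjugate in its centralizer. -/
theorem fun_conj {φ : ℕ} (h0 : φ ≠ 0) (h64 : φ < 64) :
    ∃ p ∈ P0 F, ∀ n < 128, ∃ m < 128, p * zc F n * p⁻¹ = zc F m ∧ dot φ m = n % 2 := by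
  have gen : ∀ (l : List (ℕ × ℕ × ℕ)) (seen : List ℕ),
      (∀ φ ∈ seen, ∃ p ∈ P0 F, ∀ n < 128, ∃ m < 128, p * zc F n * p⁻¹ = zc F m ∧ dot φ m = n % 2) →
      funOK seen l = true → ∀ φ ∈ seen ++ l.map Prod.fst,
      ∃ p ∈ P0 F, ∀ n < 128, ∃ m < 128, p * zc F n * p⁻¹ = zc F m ∧ dot φ m = n % 2 := by
    intro l
    induction l with
    | nil => intro seen hs _ φ hφ; exact hs φ (by simpa using hφ)
    | cons a l ih =>
      obtain ⟨a, r, ψ⟩ := a
      intro seen hs h φ hφ
      simp only [funOK, Bool.and_eq_true, List.contains_iff_mem, List.all_eq_true, beq_iff_eq,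
        List.mem_range] at h
      refine ih (a :: seen) (fun x hx => ?_) h.2 φ (by simp at hφ ⊢; tauto)
      rcases List.mem_cons.1 hx with rfl | hx
      · obtain ⟨p, hp, hq⟩ := hs ψ h.1.1.2
        refine ⟨rx F r * p, mul_mem (rx_mem_P0 hF h.1.1.1) hp, fun n hn => ?_⟩
        obtain ⟨m, hm, e, hd⟩ := hq n hn
        refine ⟨act r m, act_lt h.1.1.1 m, ?_, by rw [h.1.2 m hm, hd]⟩
        rw [← conj_zc hF h.1.1.1, ← e]
        group
      · exact hs x hx
  have h := List.all_eq_true.1 fun_ok.2.1 φ (List.mem_range.2 h64)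
  simp only [Bool.or_eq_true, beq_iff_eq, h0, false_or, List.contains_iff_mem] at h
  refine gen funTree [1] (fun x hx => ⟨1, one_mem _, fun n hn => ⟨n, hn, by simp, ?_⟩⟩) fun_ok.1 φ (by simpa using h)
  rw [List.mem_singleton.1 hx]
  exact beq_iff_eq.1 (List.all_eq_true.1 fun_ok.2.2 n (List.mem_range.2 hn))

end Cfsg.Agent.FFourLocal.Ctrl
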