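import Mathlib

/-!
# Two involutions modulo a central subgroup

If two involutions are not conjugate in the group they generate, its central involution commutes with both and
its products with them are conjugate to them. The lifted form works modulo a subgroup centralized by both.
-/

set_option autoImplicit false

namespace Cfsg.Agent.FFourLocal.Ctrl

open Subgroup

variable {G : Type*} [Group G]

/-- Two involutions: conjugate in what they generate, or there is a central involution. -/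
theorem dihedral [Finite G] (a b : G) (ha : a * a = 1) (hb : b * b = 1) :
    (∃ c ∈ closure ({a, b} : Set G), c * a * c⁻¹ = b) ∨
      ∃ z ∈ closure ({a, b} : Set G), z ≠ 1 ∧ z * z = 1 ∧ Commute z a ∧ Commute z b ∧
        ∃ c ∈ closure ({a, b} : Set G), ∃ d ∈ closure ({a, b} : Set G),
          (c * a * c⁻¹ = z * b ∧ d * b * d⁻¹ = z * a) ∨ (c * b * c⁻¹ = z * b ∧ d * a * d⁻¹ = z * a) := by
  have hai : a⁻¹ = a := inv_eq_of_mul_eq_one_right ha
  have hbi : b⁻¹ = b := inv_eq_of_mul_eq_one_right hb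
  have hA : a ∈ closure ({a, b} : Set G) := subset_closure (by simp)
  have hB : b ∈ closure ({a, b} : Set G) := subset_closure (by simp)
  set u := a * b with hu
  have hua : a * u * a⁻¹ = u⁻¹ := by rw [hu, mul_inv_rev, hai, hbi, ← mul_assoc, ha, one_mul]
  have hub : b * u * b⁻¹ = u⁻¹ := by
    rw [hu, mul_inv_rev, hai, hbi, mul_assoc, mul_assoc, hb, mul_one]
  have hflip : ∀ (x : G), x * u * x⁻¹ = u⁻¹ → ∀ n : ℕ, x * (u ^ n)⁻¹ = u ^ n * x := fun x hx n => by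
    have h1 : x * (u ^ n)⁻¹ * x⁻¹ = u ^ n := by
      rw [← inv_inj, mul_inv_rev, mul_inv_rev, inv_inv, inv_inv, ← mul_assoc, ← conj_pow, hx, inv_pow]
    rw [← mul_inv_eq_iff_eq_mul]
    exact h1
  have hconj : ∀ (x : G), x * u * x⁻¹ = u⁻¹ → ∀ n : ℕ, u ^ n * x * (u ^ n)⁻¹ = u ^ (2 * n) * x :=
    fun x hx n => by rw [mul_assoc, hflip x hx n, ← mul_assoc, ← pow_add, two_mul]
  have hmem : ∀ n : ℕ, u ^ n ∈ closure ({a, b} : Set G) := fun n => pow_mem (mul_mem hA hB) n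
  have hab : u * b = a := by rw [hu, mul_assoc, hb, mul_one]
  have hba : u⁻¹ * a = b := by rw [hu, mul_inv_rev, hai, hbi, mul_assoc, ha, mul_one]
  have hn : orderOf u ≠ 0 := (orderOf_pos u).ne'
  rcases Nat.even_or_odd (orderOf u) with ⟨m, hm⟩ | ⟨k, hk⟩
  · right
    have h1 : u ^ m * u ^ m = 1 := by rw [← pow_add, ← hm, pow_orderOf_eq_one]
    have hzi : (u ^ m)⁻¹ = u ^ m := inv_eq_of_mul_eq_one_right h1
    refine ⟨u ^ m, hmem m, fun h => ?_, h1, ?_, ?_, ?_⟩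
    · have := Nat.le_of_dvd (by omega) (orderOf_dvd_of_pow_eq_one h)
      omega
    · have := hflip a hua m
      rw [hzi] at this
      exact this.symm
    · have := hflip b hub m
      rw [hzi] at this
      exact this.symm
    rcases Nat.even_or_odd m with ⟨i, hi⟩ | ⟨i, hi⟩
    · refine ⟨_, hmem i, _, hmem i, Or.inr ⟨?_, ?_⟩⟩
      · rw [hconj b hub, show 2 * i = m by omega]
      · rw [hconj a hua, show 2 * i = m by omega]
    · refine ⟨_, hmem i, _, hmem (i + 1), Or.inl ⟨?_, ?_⟩⟩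
      · rw [hconj a hua, show m = 2 * i + 1 by omega, pow_succ, mul_assoc _ u, hab]
      · rw [hconj b hub, show 2 * (i + 1) = m + 1 by omega, pow_succ, mul_assoc _ u, hab]
  · left
    refine ⟨_, hmem k, ?_⟩
    rw [hconj a hua]
    have h1 : u ^ (2 * k) = u⁻¹ := eq_inv_of_mul_eq_one_left (by rw [← pow_succ, ← hk, pow_orderOf_eq_one])
    rw [h1, hba]

/-- The same modulo a subgroup centralized by both. -/
theorem dihedral_mod [Finite G] {I : Subgroup G} {a b : G} (haI : ∀ i ∈ I, a * i = i * a)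
    (hbI : ∀ i ∈ I, b * i = i * b) (hIab : ∀ i ∈ I, ∀ j ∈ I, i * j = j * i)
    (ha : a * a ∈ I) (hb : b * b ∈ I) :
    (∃ c ∈ closure ({a, b} : Set G), c * a * c⁻¹ * b⁻¹ ∈ I) ∨
      ∃ z ∈ closure ({a, b} : Set G), z ∉ I ∧ z * z ∈ I ∧ z * a * z⁻¹ * a⁻¹ ∈ I ∧ z * b * z⁻¹ * b⁻¹ ∈ I ∧
        ∃ c ∈ closure ({a, b} : Set G), ∃ d ∈ closure ({a, b} : Set G),
          (c * a * c⁻¹ * (z * b)⁻¹ ∈ I ∧ d * b * d⁻¹ * (z * a)⁻¹ ∈ I) ∨
            (c * b * c⁻¹ * (z * b)⁻¹ ∈ I ∧ d * a * d⁻¹ * (z * a)⁻¹ ∈ I) := by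
  set K := centralizer (I : Set G) with hK
  have haK : a ∈ K := mem_centralizer_iff.2 fun i hi => (haI i hi).symm
  have hbK : b ∈ K := mem_centralizer_iff.2 fun i hi => (hbI i hi).symm
  haveI : (I.subgroupOf K).Normal := ⟨fun x hx k => by
    have h : (k : G) * x = x * k := (mem_centralizer_iff.1 k.2 x hx).symm
    show (k : G) * x * (k : G)⁻¹ ∈ I
    rw [h, mul_inv_cancel_right]
    exact hx⟩
  have hIK : I ≤ K := fun i hi => mem_centralizer_iff.2 fun j hj => hIab j hj i hi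
  set π := QuotientGroup.mk' (I.subgroupOf K) with hπ
  have hπ1 : ∀ x : K, π x = 1 ↔ (x : G) ∈ I := fun x => QuotientGroup.eq_one_iff x
  have heq : ∀ x y : K, π x = π y ↔ (x : G) * (y : G)⁻¹ ∈ I := fun x y => by
    rw [← mul_inv_eq_one, ← map_inv, ← map_mul, hπ1]
    rfl
  have hlift : ∀ q ∈ closure ({π ⟨a, haK⟩, π ⟨b, hbK⟩} : Set _),
      ∃ k : K, π k = q ∧ (k : G) ∈ closure ({a, b} : Set G) := by
    intro q hq
    rw [← Set.image_pair, ← MonoidHom.map_closure] at hq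
    obtain ⟨k, hk, rfl⟩ := hq
    refine ⟨k, rfl, ?_⟩
    have : (k : G) ∈ (closure ({⟨a, haK⟩, ⟨b, hbK⟩} : Set K)).map K.subtype := ⟨k, hk, rfl⟩
    rwa [MonoidHom.map_closure, Set.image_pair] at this
  have hcomm : ∀ x y : K, Commute (π x) (π y) → (x : G) * y * (x : G)⁻¹ * (y : G)⁻¹ ∈ I := fun x y h => by
    have h' := (heq (x * y * x⁻¹) y).1 (by rw [map_mul, map_mul, map_inv, h.eq, mul_inv_cancel_right])
    simpa using h'
  have hconj : ∀ k x y : K, π k * π x * (π k)⁻¹ = π y → (k : G) * x * (k : G)⁻¹ * (y : G)⁻¹ ∈ I :=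
    fun k x y h => by
      have h' := (heq (k * x * k⁻¹) y).1 (by rw [map_mul, map_mul, map_inv, h])
      simpa using h'
  rcases dihedral (π ⟨a, haK⟩) (π ⟨b, hbK⟩) (by rw [← map_mul, hπ1]; exact ha)
      (by rw [← map_mul, hπ1]; exact hb) with ⟨c, hc, h⟩ | ⟨z, hz, hz1, hz2, hza, hzb, c, hc, d, hd, h⟩
  · obtain ⟨k, rfl, hk⟩ := hlift c hc
    exact Or.inl ⟨k, hk, hconj _ _ _ h⟩
  · obtain ⟨z, rfl, hzm⟩ := hlift z hz
    obtain ⟨c, rfl, hcm⟩ := hlift c hc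
    obtain ⟨d, rfl, hdm⟩ := hlift d hd
    refine Or.inr ⟨z, hzm, fun e => hz1 ((hπ1 z).2 e), ?_, hcomm z ⟨a, haK⟩ hza, hcomm z ⟨b, hbK⟩ hzb,
      c, hcm, d, hdm, ?_⟩
    · rw [← map_mul, hπ1] at hz2
      exact hz2
    · rcases h with ⟨h1, h2⟩ | ⟨h1, h2⟩
      · exact Or.inl ⟨hconj c ⟨a, haK⟩ (z * ⟨b, hbK⟩) (by rw [h1, map_mul]),
          hconj d ⟨b, hbK⟩ (z * ⟨a, haK⟩) (by rw [h2, map_mul])⟩
      · exact Or.inr ⟨hconj c ⟨b, hbK⟩ (z * ⟨b, hbK⟩) (by rw [h1, map_mul]),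
          hconj d ⟨a, haK⟩ (z * ⟨a, haK⟩) (by rw [h2, map_mul])⟩

end Cfsg.Agent.FFourLocal.Ctrl
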