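import Cfsg.Agent.Lib.FFourLocal.Ctrl.Dihedral

/-!
# Descending through the subgroups of a strongly closed abelian subgroup

`Z ∋ t` is elementary abelian in `H`, strongly closed in `H` for fusion inside `C(t)`, with `N(Z) ∩ C(t) ≤ H`.
One step: if all `I ∪ {z}` are good (centralizer in `H`) and some `s ∈ C_H(Z)` has its stabilizer leave a proper
subgroup over `I` invariant, then `I` is good.
-/

set_option autoImplicit false

namespace Cfsg.Agent.FFourLocal.Ctrl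

open Subgroup

variable {G : Type*} [Group G]

/-- The strongly closed subgroup. -/
structure Env (H Z : Subgroup G) (t : G) : Prop where
  le : Z ≤ H
  mem : t ∈ Z
  comm : ∀ a ∈ Z, ∀ b ∈ Z, a * b = b * a
  sq : ∀ a ∈ Z, a * a = 1
  sc : ∀ y ∈ Z, ∀ g : G, g * t = t * g → g * y * g⁻¹ ∈ H → g * y * g⁻¹ ∈ Z
  nz : ∀ g : G, g * t = t * g → (∀ y ∈ Z, g * y * g⁻¹ ∈ Z) → g ∈ H

variable {H Z : Subgroup G} {t : G}

theorem Env.inv_comm {g : G} (h : g * t = t * g) : g⁻¹ * t = t * g⁻¹ := by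
  rw [eq_mul_inv_iff_mul_eq, mul_assoc, ← h, inv_mul_cancel_left]

theorem Env.t_comm (E : Env H Z t) {y : G} (hy : y ∈ Z) : y * t = t * y := E.comm y hy t E.mem

/-- An element moving a good subset of `Z` into `H` lies in `H`. -/
theorem Env.back (E : Env H Z t) {S : Set G} (hS : S ⊆ Z) (hg : centralizer S ≤ H) {g : G}
    (hgt : g * t = t * g) (hj : ∀ j ∈ S, g * j * g⁻¹ ∈ H) : g ∈ H := by
  refine inv_mem_iff.1 (E.nz _ (Env.inv_comm hgt) fun y hy => E.sc y hy _ (Env.inv_comm hgt) (hg ?_))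
  refine mem_centralizer_iff.2 fun j hjS => ?_
  have h := E.comm _ (E.sc j (hS hjS) g hgt (hj j hjS)) y hy
  calc j * (g⁻¹ * y * g⁻¹⁻¹) = g⁻¹ * (g * j * g⁻¹ * y) * g := by group
    _ = g⁻¹ * (y * (g * j * g⁻¹)) * g := by rw [h]
    _ = g⁻¹ * y * g⁻¹⁻¹ * j := by group

/-- An element of `H` commuting with `t` normalises `Z`. -/
theorem Env.norm (E : Env H Z t) {k y : G} (hk : k ∈ H) (hkt : k * t = t * k) (hy : y ∈ Z) :
    k * y * k⁻¹ ∈ Z :=
  E.sc y hy k hkt (mul_mem (mul_mem hk (E.le hy)) (inv_mem hk))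

/-- A group containing `Z` whose part in `H` leaves a proper subgroup over the central `I` invariant. -/
theorem Env.step_two [Finite G] (E : Env H Z t) {I A K : Subgroup G} (hIZ : I ≤ Z) (htI : t ∈ I)
    (hgood : ∀ z ∈ Z, z ∉ I → centralizer (insert z (I : Set G)) ≤ H) (hZK : Z ≤ K)
    (hKI : K ≤ centralizer (I : Set G)) (hIA : I ≤ A) (hAZ : A ≤ Z) (hA1 : ∃ x ∈ A, x ∉ I)
    (hA2 : ∃ y ∈ Z, y ∉ A) (hinv : ∀ k ∈ K, k ∈ H → ∀ v ∈ A, k * v * k⁻¹ ∈ A) : K ≤ H := by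
  have hct : ∀ k ∈ K, ∀ i ∈ I, k * i = i * k := fun k hk i hi => ((mem_centralizer_iff.1 (hKI hk)) i hi).symm
  have uniq : ∀ z ∈ Z, z ∉ I → ∀ k ∈ K, k * z * k⁻¹ ∈ H → k ∈ H := fun z hz hzI k hk h => by
    refine E.back (S := insert z (I : Set G)) (Set.insert_subset_iff.2 ⟨hz, hIZ⟩) (hgood z hz hzI)
      (hct k hk t htI) fun j hj => ?_
    rcases Set.mem_insert_iff.1 hj with rfl | hj
    · exact h
    · rw [hct k hk j hj, mul_inv_cancel_right]; exact E.le (hIZ hj)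
  obtain ⟨x, hxA, hxI⟩ := hA1
  obtain ⟨y, hyZ, hyA⟩ := hA2
  intro g hg
  by_contra hgH
  have hxZ := hAZ hxA
  set x' := g * x * g⁻¹ with hx'
  have hx'K : x' ∈ K := mul_mem (mul_mem hg (hZK hxZ)) (inv_mem hg)
  have hyI : y ∉ I := fun h => hyA (hIA h)
  have hsub : closure ({x', y} : Set G) ≤ K := by
    rw [closure_le, Set.insert_subset_iff, Set.singleton_subset_iff]
    exact ⟨hx'K, hZK hyZ⟩
  have hx'H : x' ∉ H := fun h => hgH (uniq x hxZ hxI g hg h)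
  rcases dihedral_mod (I := I) (a := x') (b := y) (hct x' hx'K) (hct y (hZK hyZ))
      (fun i hi j hj => E.comm i (hIZ hi) j (hIZ hj))
      (by rw [show x' * x' = g * (x * x) * g⁻¹ by rw [hx']; group, E.sq x hxZ, mul_one, mul_inv_cancel]
          exact one_mem I)
      (by rw [E.sq y hyZ]; exact one_mem I) with
    ⟨c, hc, h⟩ | ⟨z, hz, hzI, -, hza, hzb, c, hc, d, -, h⟩
  · obtain ⟨i, hi, hie⟩ : ∃ i ∈ I, c * g * x * (c * g)⁻¹ = i * y := ⟨_, h, by rw [hx']; group⟩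
    have hcg : c * g ∈ K := mul_mem (hsub hc) hg
    have hcgH := uniq x hxZ hxI _ hcg (hie ▸ mul_mem (E.le (hIZ hi)) (E.le hyZ))
    have h2 := hinv _ hcg hcgH x hxA
    rw [hie, mul_mem_cancel_left (hIA hi)] at h2
    exact hyA h2
  · have hzK := hsub hz
    have hzH : z ∈ H := uniq y hyZ hyI z hzK (by
      have h1 := mul_mem (E.le (hIZ hzb)) (E.le hyZ)
      rwa [inv_mul_cancel_right] at h1)
    have key : ∀ (k w : G), k ∈ K → w ∈ Z → k * w * k⁻¹ * (z * y)⁻¹ ∈ I → z ∈ Z := fun k w hk hw h => by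
      have e : k * w * k⁻¹ = k * w * k⁻¹ * (z * y)⁻¹ * (z * y) := by group
      have h1 : k * w * k⁻¹ ∈ Z := E.sc w hw k (hct k hk t htI) (by
        rw [e]; exact mul_mem (E.le (hIZ h)) (mul_mem hzH (E.le hyZ)))
      rw [e, mul_mem_cancel_left (hIZ h), mul_mem_cancel_right hyZ] at h1
      exact h1
    have hzZ : z ∈ Z := by
      rcases h with ⟨h1, -⟩ | ⟨h1, -⟩
      · exact key (c * g) x (mul_mem (hsub hc) hg) hxZ (by
          rwa [hx', show c * (g * x * g⁻¹) * c⁻¹ = c * g * x * (c * g)⁻¹ by group] at h1)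
      · exact key c y (hsub hc) hyZ h1
    refine hx'H (uniq z hzZ hzI x' hx'K ?_)
    have e : x' * z * x'⁻¹ = (z * x' * z⁻¹ * x'⁻¹)⁻¹ * z := by group
    rw [e]
    exact mul_mem (inv_mem (E.le (hIZ hza))) hzH

/-- The elements centralizing `I` and centralizing `s` modulo `I`. -/
def modCent (I : Subgroup G) (s : G) : Subgroup G where
  carrier := {k | (∀ i ∈ I, k * i = i * k) ∧ k * s * k⁻¹ * s⁻¹ ∈ I}
  one_mem' := ⟨fun i _ => by simp, by simpa using one_mem I⟩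
  mul_mem' := by
    rintro k l ⟨hk, hks⟩ ⟨hl, hls⟩
    refine ⟨fun i hi => by rw [mul_assoc, hl i hi, ← mul_assoc, hk i hi, mul_assoc], ?_⟩
    rw [show k * l * s * (k * l)⁻¹ * s⁻¹ = k * (l * s * l⁻¹ * s⁻¹) * k⁻¹ * (k * s * k⁻¹ * s⁻¹) by group,
      hk _ hls, mul_inv_cancel_right]
    exact mul_mem hls hks
  inv_mem' := by
    rintro k ⟨hk, hks⟩
    have h1 : ∀ i ∈ I, k⁻¹ * i = i * k⁻¹ := fun i hi => by
      rw [eq_mul_inv_iff_mul_eq, mul_assoc, ← hk i hi, inv_mul_cancel_left]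
    refine ⟨h1, ?_⟩
    rw [show k⁻¹ * s * k⁻¹⁻¹ * s⁻¹ = k⁻¹ * (k * s * k⁻¹ * s⁻¹)⁻¹ * k by group,
      h1 _ (inv_mem hks), inv_mul_cancel_right]
    exact inv_mem hks

/-- The step: `I` is good. -/
theorem Env.step_one [Finite G] (E : Env H Z t) {I A : Subgroup G} (hIZ : I ≤ Z) (htI : t ∈ I)
    (hgood : ∀ z ∈ Z, z ∉ I → centralizer (insert z (I : Set G)) ≤ H) {s : G} (hsH : s ∈ H)
    (hsZ : ∀ y ∈ Z, s * y = y * s) (hsn : s ∉ Z) (hs2 : s * s ∈ I) (hIA : I ≤ A) (hAZ : A ≤ Z)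
    (hA1 : ∃ x ∈ A, x ∉ I) (hA2 : ∃ y ∈ Z, y ∉ A)
    (hinv : ∀ k ∈ H, k ∈ centralizer (I : Set G) → k * s * k⁻¹ * s⁻¹ ∈ Z → ∀ v ∈ A, k * v * k⁻¹ ∈ A) :
    centralizer (I : Set G) ≤ H := by
  set X := centralizer (I : Set G) with hX
  have hct : ∀ k ∈ X, ∀ i ∈ I, k * i = i * k := fun k hk i hi => (mem_centralizer_iff.1 hk i hi).symm
  have hXt : ∀ k ∈ X, k * t = t * k := fun k hk => hct k hk t htI
  have hII : ∀ i ∈ I, ∀ j ∈ I, i * j = j * i := fun i hi j hj => E.comm i (hIZ hi) j (hIZ hj)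
  have hsX : s ∈ X := mem_centralizer_iff.2 fun i hi => (hsZ i (hIZ hi)).symm
  have hZX : Z ≤ X := fun y hy => mem_centralizer_iff.2 fun i hi => E.comm i (hIZ hi) y hy
  have uniq : ∀ z ∈ Z, z ∉ I → ∀ k ∈ X, k * z * k⁻¹ ∈ H → k ∈ H := fun z hz hzI k hk h => by
    refine E.back (S := insert z (I : Set G)) (Set.insert_subset_iff.2 ⟨hz, hIZ⟩) (hgood z hz hzI)
      (hXt k hk) fun j hj => ?_
    rcases Set.mem_insert_iff.1 hj with rfl | hj
    · exact h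
    · rw [hct k hk j hj, mul_inv_cancel_right]; exact E.le (hIZ hj)
  -- `I ∪ {s}` is good
  have hsgood : centralizer (insert s (I : Set G)) ≤ H := by
    refine E.step_two hIZ htI hgood (fun y hy => mem_centralizer_iff.2 fun j hj => ?_)
      (centralizer_le (Set.subset_insert _ _)) hIA hAZ hA1 hA2 fun k hk hkH => hinv k hkH
        (centralizer_le (Set.subset_insert _ _) hk) ?_
    · rcases Set.mem_insert_iff.1 hj with rfl | hj
      · exact hsZ y hy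
      · exact E.comm j (hIZ hj) y hy
    · rw [← mem_centralizer_iff.1 hk s (Set.mem_insert _ _), mul_inv_cancel_right, mul_inv_cancel]
      exact one_mem Z
  -- centralizing `s` modulo `I`
  have crule : ∀ c ∈ X, c * s * c⁻¹ * s⁻¹ ∈ I → c ∈ H := by
    intro c hc h
    refine inv_mem_iff.1 (E.nz _ (Env.inv_comm (hXt c hc)) fun y hy =>
      E.sc y hy _ (Env.inv_comm (hXt c hc)) (hsgood (mem_centralizer_iff.2 fun j hj => ?_)))
    rcases Set.mem_insert_iff.1 hj with rfl | hj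
    · set i := c * j * c⁻¹ * j⁻¹ with hi
      have e : y * (i * j) = i * j * y := by
        rw [← mul_assoc, E.comm y hy i (hIZ h), mul_assoc i y, ← hsZ y hy, ← mul_assoc]
      calc j * (c⁻¹ * y * c⁻¹⁻¹) = c⁻¹ * (i * j * y) * c := by rw [hi]; group
        _ = c⁻¹ * (y * (i * j)) * c := by rw [e]
        _ = c⁻¹ * y * c⁻¹⁻¹ * j := by rw [hi]; group
    · exact mem_centralizer_iff.1 (mul_mem (mul_mem (inv_mem hc) (hZX hy)) (inv_mem (inv_mem hc))) j hj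
  have hmc : ∀ {a b : G}, a ∈ modCent I s → b ∈ modCent I s →
      ∀ c ∈ closure ({a, b} : Set G), c * s * c⁻¹ * s⁻¹ ∈ I := fun {a b} ha hb c hc => by
    have hle : closure ({a, b} : Set G) ≤ modCent I s := by
      rw [closure_le, Set.insert_subset_iff, Set.singleton_subset_iff]
      exact ⟨ha, hb⟩
    exact (hle hc).2
  have hcl : ∀ {a b : G}, a ∈ X → b ∈ X → closure ({a, b} : Set G) ≤ X := fun {a b} ha hb => by
    rw [closure_le, Set.insert_subset_iff, Set.singleton_subset_iff]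
    exact ⟨ha, hb⟩
  -- `s` fixes one point only
  have fix1 : ∀ g ∈ X, g⁻¹ * s * g ∈ H → g ∈ H := by
    intro g hg hs'
    by_contra hgH
    set s' := g⁻¹ * s * g with hs'e
    have hs'X : s' ∈ X := mul_mem (mul_mem (inv_mem hg) hsX) hg
    have hn : ∀ y ∈ Z, s' * y * s'⁻¹ ∈ Z := fun y hy => E.norm hs' (hXt s' hs'X) hy
    have hs'2 : s' * s' = s * s := by
      rw [show s' * s' = g⁻¹ * (s * s) * g by rw [hs'e]; group, mul_assoc, ← hct g hg _ hs2, inv_mul_cancel_left]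
    obtain ⟨v₀, hv₀, hv₀I⟩ : ∃ x ∈ Z, x ∉ I := hA1.imp fun x hx => ⟨hAZ hx.1, hx.2⟩
    obtain ⟨v, hv, hvI, hvs⟩ : ∃ v ∈ Z, v ∉ I ∧ s' * v * s'⁻¹ * v⁻¹ ∈ I := by
      by_cases h : s' * v₀ * s'⁻¹ * v₀⁻¹ ∈ I
      · exact ⟨v₀, hv₀, hv₀I, h⟩
      refine ⟨_, mul_mem (hn v₀ hv₀) (inv_mem hv₀), h, ?_⟩
      have e : s' * (s' * v₀ * s'⁻¹ * v₀⁻¹) * s'⁻¹ = (s' * v₀ * s'⁻¹ * v₀⁻¹)⁻¹ := by
        calc _ = (s' * s') * v₀ * (s' * s')⁻¹ * (s' * v₀⁻¹ * s'⁻¹) := by group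
          _ = v₀ * (s' * v₀⁻¹ * s'⁻¹) := by
            rw [hs'2, E.comm _ (hIZ hs2) v₀ hv₀, mul_inv_cancel_right]
          _ = _ := by group
      rw [e, ← mul_inv_rev, E.sq _ (mul_mem (hn v₀ hv₀) (inv_mem hv₀)), inv_one]
      exact one_mem I
    set x := g * v * g⁻¹ with hx
    have hxX : x ∈ X := mul_mem (mul_mem hg (hZX hv)) (inv_mem hg)
    have hxH : x ∉ H := fun h => hgH (uniq v hv hvI g hg h)
    have hvX := hZX hv₀
    rcases dihedral_mod (I := I) (a := x) (b := v₀) (hct x hxX) (hct v₀ hvX) hII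
        (by rw [show x * x = g * (v * v) * g⁻¹ by rw [hx]; group, E.sq v hv, mul_one, mul_inv_cancel]
            exact one_mem I)
        (by rw [E.sq v₀ hv₀]; exact one_mem I) with
      ⟨c, hc, h⟩ | ⟨z, hz, hzI, -, hza, hzb, c, hc, d, -, h⟩
    · have hxs : x ∈ modCent I s := ⟨hct x hxX, by
        rw [show x * s * x⁻¹ * s⁻¹ = g * (s' * v * s'⁻¹ * v⁻¹)⁻¹ * g⁻¹ by rw [hx, hs'e]; group,
          hct g hg _ (inv_mem hvs), mul_inv_cancel_right]
        exact inv_mem hvs⟩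
      have hv₀s : v₀ ∈ modCent I s := ⟨hct v₀ hvX, by
        rw [← hsZ v₀ hv₀, mul_inv_cancel_right, mul_inv_cancel]; exact one_mem I⟩
      have hcH := crule c (hcl hxX hvX hc) (hmc hxs hv₀s c hc)
      refine hxH ?_
      rw [show x = c⁻¹ * (c * x * c⁻¹ * v₀⁻¹ * v₀) * c by group]
      exact mul_mem (mul_mem (inv_mem hcH) (mul_mem (E.le (hIZ h)) (E.le hv₀))) hcH
    · have hzX := hcl hxX hvX hz
      have hzH : z ∈ H := uniq v₀ hv₀ hv₀I z hzX (by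
        have h1 := mul_mem (E.le (hIZ hzb)) (E.le hv₀)
        rwa [inv_mul_cancel_right] at h1)
      have key : ∀ (k w : G), k ∈ X → w ∈ Z → k * w * k⁻¹ * (z * v₀)⁻¹ ∈ I → z ∈ Z := fun k w hk hw h => by
        have e : k * w * k⁻¹ = k * w * k⁻¹ * (z * v₀)⁻¹ * (z * v₀) := by group
        have h1 : k * w * k⁻¹ ∈ Z := E.sc w hw k (hXt k hk) (by
          rw [e]; exact mul_mem (E.le (hIZ h)) (mul_mem hzH (E.le hv₀)))
        rw [e, mul_mem_cancel_left (hIZ h), mul_mem_cancel_right hv₀] at h1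
        exact h1
      have hzZ : z ∈ Z := by
        rcases h with ⟨h1, -⟩ | ⟨h1, -⟩
        · exact key (c * g) v (mul_mem (hcl hxX hvX hc) hg) hv (by
            rwa [hx, show c * (g * v * g⁻¹) * c⁻¹ = c * g * v * (c * g)⁻¹ by group] at h1)
        · exact key c v₀ (hcl hxX hvX hc) hv₀ h1
      refine hxH (uniq z hzZ hzI x hxX ?_)
      rw [show x * z * x⁻¹ = (z * x * z⁻¹ * x⁻¹)⁻¹ * z by group]
      exact mul_mem (inv_mem (E.le (hIZ hza))) hzH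
  intro g hg
  by_contra hgH
  -- the data attached to a conjugate of `v`
  have data : ∀ v ∈ Z, v ∉ I → ∃ z ∈ X, z ∈ H ∧ g⁻¹ * z * g ∈ H ∧ z * s ∈ Z ∧
      ∃ c ∈ X, c * z * c⁻¹ * z⁻¹ ∈ I ∧ c * g ∈ H ∧ c * g * v * (c * g)⁻¹ * (z * s)⁻¹ ∈ I := by
    intro v hv hvI
    set x := g * v * g⁻¹ with hx
    have hxX : x ∈ X := mul_mem (mul_mem hg (hZX hv)) (inv_mem hg)
    rcases dihedral_mod (I := I) (a := x) (b := s) (hct x hxX) (hct s hsX) hII
        (by rw [show x * x = g * (v * v) * g⁻¹ by rw [hx]; group, E.sq v hv, mul_one, mul_inv_cancel]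
            exact one_mem I) hs2 with
      ⟨c, hc, h⟩ | ⟨z, hz, hzI, -, hza, hzb, c, hc, d, hd, h⟩
    · exfalso
      have hcX := hcl hxX hsX hc
      have e : c * g * v * (c * g)⁻¹ = c * x * c⁻¹ * s⁻¹ * s := by rw [hx]; group
      have h1 := E.sc v hv (c * g) (hXt _ (mul_mem hcX hg)) (by
        rw [e]; exact mul_mem (E.le (hIZ h)) hsH)
      rw [e, mul_mem_cancel_left (hIZ h)] at h1
      exact hsn h1
    · have hzX := hcl hxX hsX hz
      have hzH := crule z hzX hzb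
      have hcX := hcl hxX hsX hc
      have hi : g⁻¹ * z * g * v * (g⁻¹ * z * g)⁻¹ * v⁻¹ ∈ I := by
        rw [show g⁻¹ * z * g * v * (g⁻¹ * z * g)⁻¹ * v⁻¹ = g⁻¹ * (z * x * z⁻¹ * x⁻¹) * g by rw [hx]; group,
          hct _ (inv_mem hg) _ hza, inv_mul_cancel_right]
        exact hza
      have hz'X : g⁻¹ * z * g ∈ X := mul_mem (mul_mem (inv_mem hg) hzX) hg
      have hz'H : g⁻¹ * z * g ∈ H := uniq v hv hvI _ hz'X (by
        have h1 := mul_mem (E.le (hIZ hi)) (E.le hv)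
        rwa [inv_mul_cancel_right] at h1)
      rcases h with ⟨h1, -⟩ | ⟨-, h2⟩
      · have e : c * g * v * (c * g)⁻¹ = c * x * c⁻¹ := by rw [hx]; group
        have hcgH : c * g * v * (c * g)⁻¹ ∈ H := by
          rw [e, show c * x * c⁻¹ = c * x * c⁻¹ * (z * s)⁻¹ * (z * s) by group]
          exact mul_mem (E.le (hIZ h1)) (mul_mem hzH hsH)
        have hcgZ := E.sc v hv _ (hXt _ (mul_mem hcX hg)) hcgH
        refine ⟨z, hzX, hzH, hz'H, ?_, c, hcX, ?_, uniq v hv hvI _ (mul_mem hcX hg) hcgH, by rwa [e]⟩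
        · rw [e, show c * x * c⁻¹ = c * x * c⁻¹ * (z * s)⁻¹ * (z * s) by group,
            mul_mem_cancel_left (hIZ h1)] at hcgZ
          exact hcgZ
        · have hsw : ∀ y ∈ X, z * y * z⁻¹ * y⁻¹ ∈ I → y ∈ modCent I z := fun y hy h => ⟨hct y hy, by
            rw [show y * z * y⁻¹ * z⁻¹ = (z * y * z⁻¹ * y⁻¹)⁻¹ by group]; exact inv_mem h⟩
          have hle : closure ({x, s} : Set G) ≤ modCent I z := by
            rw [closure_le, Set.insert_subset_iff, Set.singleton_subset_iff]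
            exact ⟨hsw x hxX hza, hsw s hsX hzb⟩
          exact (hle hc).2
      · exfalso
        set z' := g⁻¹ * z * g with hz'
        set k := g⁻¹ * d * g with hk
        have hkX : k ∈ X := mul_mem (mul_mem (inv_mem hg) (hcl hxX hsX hd)) hg
        have h3 : k * v * k⁻¹ * (z' * v)⁻¹ ∈ I := by
          rw [show k * v * k⁻¹ * (z' * v)⁻¹ = g⁻¹ * (d * x * d⁻¹ * (z * x)⁻¹) * g by
              rw [hk, hz', hx]; group,
            hct _ (inv_mem hg) _ h2, inv_mul_cancel_right]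
          exact h2
        have e : k * v * k⁻¹ = k * v * k⁻¹ * (z' * v)⁻¹ * (z' * v) := by group
        have h4 := E.sc v hv k (hXt k hkX) (by
          rw [e]; exact mul_mem (E.le (hIZ h3)) (mul_mem hz'H (E.le hv)))
        rw [e, mul_mem_cancel_left (hIZ h3), mul_mem_cancel_right hv] at h4
        have hz'I : z' ∉ I := fun hh => hzI (by
          have : z = g * z' * g⁻¹ := by rw [hz']; group
          rw [this, hct g hg _ hh, mul_inv_cancel_right]; exact hh)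
        refine hgH (fix1 g hg (uniq z' h4 hz'I _ (mul_mem (mul_mem (inv_mem hg) hsX) hg) ?_))
        rw [show g⁻¹ * s * g * z' * (g⁻¹ * s * g)⁻¹ = g⁻¹ * (z * s * z⁻¹ * s⁻¹)⁻¹ * g * z' by
            rw [hz']; group,
          hct _ (inv_mem hg) _ (inv_mem hzb), inv_mul_cancel_right]
        exact mul_mem (E.le (hIZ (inv_mem hzb))) (E.le h4)
  obtain ⟨x₁, hx₁A, hx₁I⟩ := hA1
  obtain ⟨y₁, hy₁Z, hy₁A⟩ := hA2
  obtain ⟨z₁, hz₁X, hz₁H, hz₁', hz₁s, c₁, hc₁X, hc₁z, hc₁H, hc₁v⟩ := data x₁ (hAZ hx₁A) hx₁I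
  set h₁ := c₁ * g with hh₁
  have hh₁X : h₁ ∈ X := mul_mem hc₁X hg
  set w₀ := z₁ * s with hw₀
  -- every element outside `I` reaches `w₀` through an element centralizing `z₁` modulo `I`
  have reach : ∀ v ∈ Z, v ∉ I → ∃ k ∈ X, k ∈ H ∧ k * z₁ * k⁻¹ * z₁⁻¹ ∈ I ∧ k * v * k⁻¹ * w₀⁻¹ ∈ I := by
    intro v hv hvI
    set v' := h₁⁻¹ * v * h₁ with hv'
    have hv'Z : v' ∈ Z := by
      have := E.norm (inv_mem hc₁H) (hXt _ (inv_mem hh₁X)) hv
      rwa [inv_inv] at this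
    have hv'I : v' ∉ I := fun hh => hvI (by
      rw [show v = h₁ * v' * h₁⁻¹ by rw [hv']; group, hct h₁ hh₁X _ hh, mul_inv_cancel_right]; exact hh)
    obtain ⟨z, hzX, hzH, hz', hzs, c, hcX, hcz, hcH, hcv⟩ := data v' hv'Z hv'I
    have hzz : z * z₁⁻¹ ∈ I := by
      by_contra hW
      have hWZ : z * z₁⁻¹ ∈ Z := by
        rw [show z * z₁⁻¹ = z * s * (z₁ * s)⁻¹ by group]
        exact mul_mem hzs (inv_mem hz₁s)
      refine hgH (inv_mem_iff.1 (uniq _ hWZ hW _ (inv_mem hg) ?_))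
      rw [inv_inv, show g⁻¹ * (z * z₁⁻¹) * g = g⁻¹ * z * g * (g⁻¹ * z₁ * g)⁻¹ by group]
      exact mul_mem hz' (inv_mem hz₁')
    have hkX : c * c₁⁻¹ ∈ X := mul_mem hcX (inv_mem hc₁X)
    have hc2 : c ∈ modCent I z₁ := ⟨hct c hcX, by
      set i := z * z₁⁻¹ with hi
      rw [show c * z₁ * c⁻¹ * z₁⁻¹ = c * i⁻¹ * c⁻¹ * (c * z * c⁻¹ * z⁻¹) * i by rw [hi]; group,
        hct c hcX _ (inv_mem hzz), mul_inv_cancel_right]
      exact mul_mem (mul_mem (inv_mem hzz) hcz) hzz⟩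
    have hk2 : c * c₁⁻¹ ∈ modCent I z₁ := mul_mem hc2 (inv_mem (show c₁ ∈ modCent I z₁ from ⟨hct c₁ hc₁X, hc₁z⟩))
    refine ⟨c * c₁⁻¹, hkX, ?_, hk2.2, ?_⟩
    · rw [show c * c₁⁻¹ = c * g * (c₁ * g)⁻¹ by group]
      exact mul_mem hcH (inv_mem hc₁H)
    · rw [show c * c₁⁻¹ * v * (c * c₁⁻¹)⁻¹ * w₀⁻¹ =
          c * g * v' * (c * g)⁻¹ * (z * s)⁻¹ * (z * z₁⁻¹) by rw [hw₀, hv', hh₁]; group]
      exact mul_mem hcv hzz
  -- such elements preserve `A`
  have pres : ∀ k ∈ X, k ∈ H → k * z₁ * k⁻¹ * z₁⁻¹ ∈ I → ∀ v ∈ A, k * v * k⁻¹ ∈ A := by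
    intro k hkX hkH hkz
    refine hinv k hkH hkX ?_
    set i := k * z₁ * k⁻¹ * z₁⁻¹ with hi
    rw [show k * s * k⁻¹ * s⁻¹ = z₁⁻¹ * (i⁻¹ * (k * w₀ * k⁻¹) * w₀⁻¹) * z₁⁻¹⁻¹ by rw [hi, hw₀]; group]
    exact E.norm (inv_mem hz₁H) (hXt _ (inv_mem hz₁X))
      (mul_mem (mul_mem (hIZ (inv_mem hkz)) (E.norm hkH (hXt k hkX) hz₁s)) (inv_mem hz₁s))
  obtain ⟨k, hkX, hkH, hkz, hkv⟩ := reach x₁ (hAZ hx₁A) hx₁I
  obtain ⟨l, hlX, hlH, hlz, hlv⟩ := reach y₁ hy₁Z fun h => hy₁A (hIA h)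
  have hw₀A : w₀ ∈ A := by
    have h := pres k hkX hkH hkz x₁ hx₁A
    rw [show k * x₁ * k⁻¹ = k * x₁ * k⁻¹ * w₀⁻¹ * w₀ by group, mul_mem_cancel_left (hIA hkv)] at h
    exact h
  have hlm : l⁻¹ ∈ modCent I z₁ := inv_mem (show l ∈ modCent I z₁ from ⟨hct l hlX, hlz⟩)
  have h := pres l⁻¹ (inv_mem hlX) (inv_mem hlH) hlm.2 _ (mul_mem (hIA hlv) hw₀A)
  rw [show l⁻¹ * (l * y₁ * l⁻¹ * w₀⁻¹ * w₀) * l⁻¹⁻¹ = y₁ by group] at h
  exact hy₁A h

/-- Downward induction over the subgroups of `Z` containing `t`. -/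
theorem Env.all_good [Finite G] (E : Env H Z t)
    (hbase : ∀ I : Subgroup G, I ≤ Z → t ∈ I → Nat.card Z ≤ 2 * Nat.card I → centralizer (I : Set G) ≤ H)
    (hstep : ∀ I : Subgroup G, I ≤ Z → t ∈ I → 2 * Nat.card I < Nat.card Z →
      ∃ (s : G) (A : Subgroup G), s ∈ H ∧ (∀ y ∈ Z, s * y = y * s) ∧ s ∉ Z ∧ s * s ∈ I ∧ I ≤ A ∧ A ≤ Z ∧
        (∃ x ∈ A, x ∉ I) ∧ (∃ y ∈ Z, y ∉ A) ∧
        ∀ k ∈ H, k ∈ centralizer (I : Set G) → k * s * k⁻¹ * s⁻¹ ∈ Z → ∀ v ∈ A, k * v * k⁻¹ ∈ A) :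
    ∀ I : Subgroup G, I ≤ Z → t ∈ I → centralizer (I : Set G) ≤ H := by
  suffices h : ∀ n, ∀ I : Subgroup G, Nat.card Z - Nat.card I = n → I ≤ Z → t ∈ I →
      centralizer (I : Set G) ≤ H from fun I => h _ I rfl
  intro n
  induction n using Nat.strong_induction_on with
  | _ n ih =>
    intro I hn hIZ htI
    by_cases hI : Nat.card Z ≤ 2 * Nat.card I
    · exact hbase I hIZ htI hI
    obtain ⟨s, A, hsH, hsZ, hsn, hs2, hIA, hAZ, hA1, hA2, hinv⟩ := hstep I hIZ htI (by omega)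
    refine E.step_one hIZ htI (fun z hz hzI => ?_) hsH hsZ hsn hs2 hIA hAZ hA1 hA2 hinv
    have hJZ : closure (insert z (I : Set G)) ≤ Z := (closure_le _).2 (Set.insert_subset_iff.2 ⟨hz, hIZ⟩)
    have hlt : I < closure (insert z (I : Set G)) :=
      lt_of_le_of_ne (fun i hi => subset_closure (Set.mem_insert_of_mem _ hi))
        fun e => hzI (e ▸ subset_closure (Set.mem_insert _ _))
    have hlt' : Nat.card I < Nat.card (closure (insert z (I : Set G))) :=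
      lt_of_le_of_ne (card_le_of_le hlt.le) fun e => hlt.ne (eq_of_le_of_card_ge hlt.le e.ge)
    have hle' := card_le_of_le hJZ
    have h := ih _ (by omega) _ rfl hJZ (hlt.le htI)
    rwa [centralizer_closure] at h

end Cfsg.Agent.FFourLocal.Ctrl
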