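import Cfsg.Agent.Lib.SpThreeCent.CentThree
import Cfsg.Agent.Lib.Coprime.Generation
import Cfsg.Agent.Lib.SECore.NoBadBasic
import Cfsg.Agent.Lib.ZStar.Main

/-!
# A subgroup holding its elements of order three

If no element outside `H` moves an element of order three of `H` into `H`, then 3-groups meeting `H` lie in `H`,
fusion with centralized elements of order three is controlled, and invariant 3'-subgroups lie in `H`.
An isolated involution with a four-group of good involutions finishes a centralizer.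
-/

set_option autoImplicit false
set_option linter.style.haveILetI false

namespace Cfsg.Agent.FFourLocal.Ctrl

open Subgroup

variable {G : Type*} [Group G]

/-- No element outside moves an element of order three inside. -/
def Holds (H : Subgroup G) : Prop :=
  ∀ d ∈ H, orderOf d = 3 → ∀ g : G, g * d * g⁻¹ ∈ H → g ∈ H

variable {H : Subgroup G}

theorem Holds.cent (hH : Holds H) {d : G} (hd : d ∈ H) (h3 : orderOf d = 3) {g : G} (hg : g * d = d * g) :
    g ∈ H :=
  hH d hd h3 g (by rw [hg, mul_inv_cancel_right]; exact hd)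

/-- A 3-group containing an element of order three of `H` lies in `H`. -/
theorem Holds.pgroup_le [Finite G] (hH : Holds H) {P : Subgroup G} (hP : IsPGroup 3 P) {d : G} (hdP : d ∈ P)
    (hdH : d ∈ H) (h3 : orderOf d = 3) : P ≤ H := by
  haveI : Fact (Nat.Prime 3) := ⟨Nat.prime_three⟩
  haveI := hP.isNilpotent
  by_contra hle
  have hne : H.subgroupOf P ≠ ⊤ := fun e => hle (subgroupOf_eq_top.1 e)
  have hnc : NormalizerCondition P := Group.normalizerCondition_of_isNilpotent
  refine (hnc _ (lt_top_iff_ne_top.2 hne)).ne (le_antisymm le_normalizer fun n hn => ?_)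
  exact hH d hdH h3 n ((mem_normalizer_iff.1 hn ⟨d, hdP⟩).1 hdH)

/-- Control of fusion by the centralized elements of order three. -/
theorem Holds.ctrl [Finite G] (hH : Holds H) {S : Set G} {g d e : G} (hd : d ∈ H) (hd3 : orderOf d = 3)
    (hdS : ∀ x ∈ S, d * x = x * d) (he : e ∈ H) (he3 : orderOf e = 3)
    (heS : ∀ x ∈ S, e * (g * x * g⁻¹) = g * x * g⁻¹ * e) :
    ∃ c ∈ H, ∀ x ∈ S, c * x * c⁻¹ = g * x * g⁻¹ := by
  haveI : Fact (Nat.Prime 3) := ⟨Nat.prime_three⟩
  set C := centralizer ((fun x => g * x * g⁻¹) '' S) with hC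
  have hgd : g * d * g⁻¹ ∈ C := mem_centralizer_iff.2 fun y hy => by
    obtain ⟨x, hx, rfl⟩ := hy
    calc g * x * g⁻¹ * (g * d * g⁻¹) = g * (x * d) * g⁻¹ := by group
      _ = g * (d * x) * g⁻¹ := by rw [hdS x hx]
      _ = g * d * g⁻¹ * (g * x * g⁻¹) := by group
  have heC : e ∈ C := mem_centralizer_iff.2 fun y hy => by
    obtain ⟨x, hx, rfl⟩ := hy
    exact (heS x hx).symm
  have hp : ∀ c : C, orderOf (c : G) = 3 → IsPGroup 3 (zpowers c) := fun c h =>
    IsPGroup.of_card (n := 1) (by rw [Nat.card_zpowers, ← Subgroup.orderOf_coe, h, pow_one])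
  obtain ⟨P, hP⟩ := (hp ⟨e, heC⟩ he3).exists_le_sylow
  have hPH : ((P : Subgroup C).map C.subtype) ≤ H :=
    hH.pgroup_le (P.2.map _) ⟨⟨e, heC⟩, hP (mem_zpowers _), rfl⟩ he he3
  have h3' : orderOf (g * d * g⁻¹) = 3 := by
    rw [← hd3]; exact (MulAut.conj g).orderOf_eq d
  obtain ⟨Q, hQ⟩ := (hp ⟨g * d * g⁻¹, hgd⟩ h3').exists_le_sylow
  obtain ⟨c, hc⟩ := MulAction.exists_smul_eq C Q P
  have hmem : c * ⟨g * d * g⁻¹, hgd⟩ * c⁻¹ ∈ (P : Subgroup C) := by
    rw [← hc, Sylow.coe_subgroup_smul]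
    exact ⟨_, hQ (mem_zpowers _), rfl⟩
  have h1 : (c : G) * g ∈ H := hH d hd hd3 _ (by
    have h2 := hPH ⟨_, hmem, rfl⟩
    have e2 : (c : G) * g * d * ((c : G) * g)⁻¹ = c * (g * d * g⁻¹) * (c : G)⁻¹ := by group
    rw [e2]
    exact h2)
  refine ⟨_, h1, fun x hx => ?_⟩
  have h2 := mem_centralizer_iff.1 c.2 _ ⟨x, hx, rfl⟩
  calc (c : G) * g * x * ((c : G) * g)⁻¹ = c * (g * x * g⁻¹) * (c : G)⁻¹ := by group
    _ = g * x * g⁻¹ := by rw [← h2, mul_inv_cancel_right]

/-- A subgroup normalized by a noncyclic abelian 3-group of `H`, without elements of order three in `H`. -/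
theorem Holds.le_of_nine [Finite G] (hH : Holds H) {A K : Subgroup G} [IsMulCommutative A] (hA : IsPGroup 3 A)
    (hAH : A ≤ H) (hAc : ¬ IsCyclic A) (hAK : A ≤ normalizer (K : Set G))
    (hK : ∀ x ∈ K, x ∈ H → orderOf x ≠ 3) : K ≤ H := by
  haveI : Fact (Nat.Prime 3) := ⟨Nat.prime_three⟩
  have hne : A ≠ ⊥ := fun e => hAc (by subst e; exact Bot.isCyclic)
  obtain ⟨⟨a, ha⟩, ha3⟩ : ∃ a : A, orderOf a = 3 := by
    refine exists_prime_orderOf_dvd_card' 3 ?_
    obtain ⟨n, hn⟩ := IsPGroup.iff_card.1 hA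
    rw [hn]
    refine dvd_pow_self 3 fun e => hne ?_
    exact eq_bot_of_card_eq _ (by rw [hn, e, pow_zero])
  have ha3' : orderOf a = 3 := by rw [← ha3, ← Subgroup.orderOf_coe]
  have hn3 : ¬ 3 ∣ Nat.card K := by
    intro hdvd
    have hsy : ¬ 3 ∣ Nat.card (Sylow 3 K) := fun h => by
      have h1 := card_sylow_modEq_one 3 K
      rw [Nat.ModEq, Nat.mod_eq_zero_of_dvd h] at h1
      norm_num at h1
    obtain ⟨T, hT⟩ := SpThreeCent.exists_fixed_sylow K A hA hAK hsy
    have hTA : IsPGroup 3 ↥((T : Subgroup K).map K.subtype ⊔ A) :=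
      (T.2.map _).to_sup_of_normal_left' hA hT
    have hle : (T : Subgroup K).map K.subtype ≤ H :=
      le_sup_left.trans (hH.pgroup_le hTA (mem_sup_right ha) (hAH ha) ha3')
    obtain ⟨k, hk⟩ := exists_prime_orderOf_dvd_card' (G := ↥(T : Subgroup K)) 3 (T.dvd_card_of_dvd_card hdvd)
    exact hK _ (k : K).2 (hle ⟨(k : K), k.2, rfl⟩) (by rw [Subgroup.orderOf_coe, Subgroup.orderOf_coe, hk])
  have hcop : (Nat.card A).Coprime (Nat.card K) := by
    obtain ⟨n, hn⟩ := IsPGroup.iff_card.1 hA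
    rw [hn]
    exact ((Nat.prime_three.coprime_iff_not_dvd).2 hn3).pow_left n
  rw [← Coprime.fixedGen_eq hAc hAK hcop]
  refine iSup₂_le fun b hb x hx => ?_
  -- a power of `b` of order three
  obtain ⟨c, hc⟩ : ∃ c : zpowers b, orderOf c = 3 := by
    refine exists_prime_orderOf_dvd_card' 3 ?_
    rw [Nat.card_zpowers]
    obtain ⟨j, hj⟩ := (IsPGroup.iff_orderOf.1 hA) ⟨b, hb.1⟩
    rw [Subgroup.orderOf_mk] at hj
    rw [hj]
    refine dvd_pow_self 3 fun e => hb.2 ?_
    rw [← orderOf_eq_one_iff, hj, e, pow_zero]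
  refine hH.cent (d := (c : G)) (hAH ((zpowers_le (G := G)).2 hb.1 c.2)) (by rw [Subgroup.orderOf_coe, hc]) ?_
  obtain ⟨i, hi⟩ := mem_zpowers_iff.1 c.2
  have hxb : Commute x b := (mem_centralizer_singleton_iff.1 hx.2)
  rw [← hi]
  exact (hxb.zpow_right i).eq

/-- The centralizer of `f` lies in `H` when an involution of it is isolated in it and two commuting good
involutions of it generate a four group of good involutions. -/
theorem cent_le_of_isolated [Finite G] {f x a b : G} (hx2 : orderOf x = 2) (hxf : x * f = f * x) (hxH : x ∈ H)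
    (huniq : ∀ g : G, g * x * g⁻¹ ∈ H → g ∈ H) (hfix : ∀ h ∈ H, h * f = f * h → h * x = x * h)
    (ha : a * a = 1) (hb : b * b = 1) (hab : a * b = b * a) (haf : a * f = f * a) (hbf : b * f = f * b)
    (hga : centralizer ({a} : Set G) ≤ H) (hgb : centralizer ({b} : Set G) ≤ H)
    (hgab : centralizer ({a * b} : Set G) ≤ H) : centralizer ({f} : Set G) ≤ H := by
  set X := centralizer ({f} : Set G) with hX
  have hxX : x ∈ X := mem_centralizer_singleton_iff.2 hxf
  have hcx : centralizer ({x} : Set G) ≤ H := fun g hg => huniq g (by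
    rw [mem_centralizer_singleton_iff.1 hg, mul_inv_cancel_right]; exact hxH)
  have hiso : Cfsg.IsIsolatedInvolution (⟨x, hxX⟩ : X) := by
    refine ⟨by rw [Subgroup.orderOf_mk, hx2], fun g hg => ?_⟩
    have hc : x * (g * x * (g : G)⁻¹) = g * x * (g : G)⁻¹ * x := congrArg Subtype.val hg.eq
    have hH : (g : G) * x * (g : G)⁻¹ ∈ H := hcx (mem_centralizer_singleton_iff.2 hc.symm)
    refine Subtype.ext ?_
    show (g : G) * x * (g : G)⁻¹ = x
    rw [hfix g (huniq g hH) (mem_centralizer_singleton_iff.1 g.2), mul_inv_cancel_right]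
  set O := (Cfsg.oddCore X).map X.subtype with hO
  have hnorm : X ≤ normalizer (O : Set G) := by
    intro k hk
    refine mem_normalizer_fintype ?_
    rintro _ ⟨o, ho, rfl⟩
    exact ⟨_, (inferInstance : (Cfsg.oddCore X).Normal).conj_mem o ho ⟨k, hk⟩, rfl⟩
  have hodd : Odd (Nat.card O) := by
    rw [hO, card_map_of_injective X.subtype_injective]
    exact InvChar.Core.odd_card_oddCore
  have hOH : O ≤ H := SECore.le_of_four hodd ha hb hab (hnorm (mem_centralizer_singleton_iff.2 haf))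
    (hnorm (mem_centralizer_singleton_iff.2 hbf)) fun y _ h => by
      rcases h with h | h | h
      · exact hga (mem_centralizer_singleton_iff.2 h)
      · exact hgb (mem_centralizer_singleton_iff.2 h)
      · exact hgab (mem_centralizer_singleton_iff.2 h)
  intro g hg
  have h1 : x * g * x⁻¹ * g⁻¹ ∈ H :=
    hOH ⟨_, ZStar.Main.commutator_mem_oddCore hiso (⟨g, hg⟩ : X), rfl⟩
  refine huniq g ?_
  rw [show g * x * g⁻¹ = (x * g * x⁻¹ * g⁻¹)⁻¹ * x by group]
  exact mul_mem (inv_mem h1) hxH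

end Cfsg.Agent.FFourLocal.Ctrl
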