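import Cfsg.Agent.Lib.FFourLocal.Ctrl.Pairs
import Cfsg.Agent.Lib.FFourLocal.Ctrl.Three
import Cfsg.Agent.Lib.FFourLocal.Ctrl.Step

/-!
# The centralizer of the long root involution

A copy of F₄(2) inside `H`, with `H` holding its elements of order three: the subgroup Z is strongly closed in the
centralizer of the long root involution, and that centralizer lies in `H`.
-/

set_option autoImplicit false
set_option linter.style.haveILetI false
set_option maxRecDepth 20000

namespace Cfsg.Agent.FFourLocal.Ctrl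

open Subgroup

universe u v

variable {F : Type u} [Field F] [Fintype F] {G : Type v} [Group G]

/-- F₄(2) inside a group holding its elements of order three. -/
structure Setup (f : FM F →* G) (H : Subgroup G) : Prop where
  card_F : Fintype.card F = 2
  inj : Function.Injective f
  le : f.range ≤ H
  holds : Holds H
  cap : ∀ h ∈ H, h * f (rx F 47) = f (rx F 47) * h → h ∈ f.range
  swap : ∀ h ∈ H, ∀ s, (s = 44 ∨ s = 47) →
    ∃ (y : FM F) (s' : ℕ), (s' = 44 ∨ s' = 47) ∧ h * f (rx F s) * h⁻¹ = f (y * rx F s' * y⁻¹)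

theorem dot_zero (n : ℕ) : dot 0 n = 0 := by simp [dot, show bits 0 = [] by decide]

theorem span_lt : ((List.range 6).all fun k => (span (fixd k)).all fun c => Nat.blt c 128) = true := by decide +kernel

theorem fixd_all : ((List.range 7).all fun i => (fixd 6).contains (2 ^ i)) = true := by decide +kernel

theorem fixd_succ : ((List.range 6).all fun k =>
    fixd (k + 1) == fixd k ++ [(steps.getD k (0, [])).1]) = true := by decide +kernel

theorem z46_ok : (Zl.all fun z => 46 == z || Cfsg.Agent.F4TwoMult.com 46 z) = true := by decide +kernel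

/-- Every involution is centralized by an element of order three. -/
theorem inv_three (hF : Fintype.card F = 2) {x : FM F} (hx : orderOf x = 2) :
    ∃ d : FM F, orderOf d = 3 ∧ Commute d x := by
  obtain ⟨h, hh⟩ := (classes hF).2.1 x hx
  obtain ⟨d, hd3, hdy⟩ : ∃ d : FM F, orderOf d = 3 ∧ Commute d (h * x * h⁻¹) := by
    have c : ∀ {q r : ℕ}, q < 48 → pairFix q r = true → Commute (rx F r * rx F (Cfsg.Lie.chevF4.neg r)) (rx F q) :=
      fun hq h => pair_comm hF hq h
    simp only [List.mem_cons, List.not_mem_nil, or_false] at hh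
    rcases hh with e | e | e | e <;> rw [e]
    · exact ⟨_, three hF (show 25 < 48 by norm_num), c (by norm_num) (by decide +kernel)⟩
    · exact ⟨_, three hF (show 25 < 48 by norm_num), c (by norm_num) (by decide +kernel)⟩
    · exact ⟨_, three hF (show 25 < 48 by norm_num),
        (c (by norm_num) (by decide +kernel)).mul_right (c (by norm_num) (by decide +kernel))⟩
    · exact ⟨_, three hF (show 33 < 48 by norm_num),
        (c (by norm_num) (by decide +kernel)).mul_right (c (by norm_num) (by decide +kernel))⟩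
  refine ⟨h⁻¹ * d * h, ?_, ?_⟩
  · rw [show h⁻¹ * d * h = MulAut.conj h⁻¹ d by simp [MulAut.conj_apply], MulEquiv.orderOf_eq, hd3]
  · have := hdy.map (MulAut.conj h⁻¹).toMonoidHom
    simp only [MulEquiv.coe_toMonoidHom, MulAut.conj_apply, inv_inv] at this
    rwa [show h⁻¹ * (h * x * h⁻¹) * h = x by group] at this

theorem orderOf_rx (hF : Fintype.card F = 2) {r : ℕ} (hr : r < 48) : orderOf (rx F r) = 2 :=
  orderOf_eq_prime (p := 2) (hp := ⟨Nat.prime_two⟩) (by rw [pow_two, rx_sq hF]) (rx_ne_one hr)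

variable {f : FM F →* G} {H : Subgroup G}

theorem Setup.mem (S : Setup f H) (x : FM F) : f x ∈ H := S.le ⟨x, rfl⟩

/-- The centralizer of the long root involution in `H`. -/
theorem Setup.cap_P0 (S : Setup f H) {h : G} (hh : h ∈ H) (hc : h * f (rx F 47) = f (rx F 47) * h) :
    ∃ p ∈ P0 F, f p = h := by
  obtain ⟨p, rfl⟩ := S.cap h hh hc
  exact ⟨p, Subgroup.mem_centralizer_singleton_iff.2 (S.inj (by rw [map_mul, map_mul, hc])), rfl⟩

theorem Setup.comm_P0 (_S : Setup f H) {p : FM F} (hp : p ∈ P0 F) : Commute (f p) (f (rx F 47)) :=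
  Commute.map (Subgroup.mem_centralizer_singleton_iff.1 hp) f

variable [Finite G]

/-- Conjugates of the short root involution by the centralizer, inside `H`. -/
theorem Setup.sc_u (S : Setup f H) {g : G} (hg : g * f (rx F 47) = f (rx F 47) * g)
    (h : g * f (rx F 44) * g⁻¹ ∈ H) : ∃ c ∈ P0 F, g * f (rx F 44) * g⁻¹ = f (c * rx F 44 * c⁻¹) := by
  have hF := S.card_F
  set t := f (rx F 47) with ht
  set u := f (rx F 44) with hu
  have htu : t * u = u * t :=
    (Commute.map (Subgroup.mem_centralizer_singleton_iff.1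
      (rx_mem_P0 hF (show 44 ∈ Pl by decide))) f).eq.symm
  obtain ⟨p, hp, hpe⟩ := S.cap_P0 h (by
    calc g * u * g⁻¹ * t = g * u * (g⁻¹ * t) := by group
      _ = g * (u * t) * g⁻¹ := by rw [Env.inv_comm hg]; group
      _ = g * (t * u) * g⁻¹ := by rw [htu]
      _ = t * (g * u * g⁻¹) := by rw [← mul_assoc g, hg]; group)
  obtain ⟨e, heP, he3, hec⟩ := three_u hF (F := F)
  have hf3 : ∀ {d : FM F}, orderOf d = 3 → orderOf (f d) = 3 := fun hd => by
    rw [orderOf_injective f S.inj, hd]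
  have hp2 : orderOf p = 2 := by
    rw [← orderOf_injective f S.inj, hpe, ← MulAut.conj_apply, MulEquiv.orderOf_eq, hu,
      orderOf_injective f S.inj, orderOf_rx hF (by norm_num)]
  obtain ⟨d, hd3, hdc⟩ := inv_three hF hp2
  obtain ⟨c₀, hc₀, hc₀u⟩ := S.holds.ctrl (S := {u}) (g := g) (S.mem e) (hf3 he3)
    (fun x hx => by obtain rfl : x = u := hx; exact (hec.map f).eq) (S.mem d) (hf3 hd3)
    (fun x hx => by obtain rfl : x = u := hx; rw [← hpe]; exact (hdc.map f).eq)
  obtain ⟨y, s, hs, hys⟩ := S.swap c₀ hc₀ 44 (Or.inl rfl)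
  rw [← hu, hc₀u u rfl, ← hpe] at hys
  have hpy : p = y * rx F s * y⁻¹ := S.inj hys
  obtain ⟨d', hd'P, hd'3, hd'c⟩ := three_conj hF hs (hpy ▸ hp)
  rw [← hpy] at hd'c
  obtain ⟨c, hc, hcS⟩ := S.holds.ctrl (S := {t, u}) (g := g) (S.mem e) (hf3 he3)
    (fun x hx => by
      rcases hx with rfl | rfl
      · exact (S.comm_P0 heP).eq
      · exact (hec.map f).eq)
    (S.mem d') (hf3 hd'3) (fun x hx => by
      rcases hx with rfl | rfl
      · rw [hg, mul_inv_cancel_right]; exact (S.comm_P0 hd'P).eq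
      · rw [← hpe]; exact (hd'c.map f).eq)
  obtain ⟨c', hc', rfl⟩ := S.cap_P0 hc (by
    have := hcS t (Set.mem_insert _ _)
    rw [hg, mul_inv_cancel_right] at this
    exact mul_inv_eq_iff_eq_mul.1 this)
  exact ⟨c', hc', by rw [← hcS u (Or.inr rfl), map_mul, map_mul, map_inv]⟩

/-- Z is strongly closed in the centralizer of the long root involution. -/
theorem Setup.sc (S : Setup f H) : ∀ y ∈ (Zg F).map f, ∀ g : G, g * f (rx F 47) = f (rx F 47) * g →
    g * y * g⁻¹ ∈ H → g * y * g⁻¹ ∈ (Zg F).map f := by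
  have hF := S.card_F
  rintro _ ⟨z, hz, rfl⟩ g hg h
  obtain ⟨n, hn, rfl⟩ := (mem_Zg hF).1 hz
  have h64 : zc F 64 = rx F 47 := by rw [show (64 : ℕ) = 2 ^ 6 by norm_num, zc_pow (by norm_num)]; rfl
  have hgt : g * f (rx F 47) * g⁻¹ = f (rx F 47) := by rw [hg, mul_inv_cancel_right]
  have hu : ∀ m < 128, omN.testBit m = true → g * f (zc F m) * g⁻¹ ∈ H →
      g * f (zc F m) * g⁻¹ ∈ (Zg F).map f := by
    intro m hm hom hH
    obtain ⟨p, hp, e⟩ := om_conj hF hm hom
    have e' : g * f (zc F m) * g⁻¹ = g * f p * f (rx F 44) * (g * f p)⁻¹ := by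
      rw [← e, map_mul, map_mul, map_inv]; group
    have hgp : g * f p * f (rx F 47) = f (rx F 47) * (g * f p) := by
      rw [mul_assoc, (S.comm_P0 hp).eq, ← mul_assoc, hg, mul_assoc]
    obtain ⟨c, hc, ec⟩ := S.sc_u hgp (e' ▸ hH)
    rw [e', ec]
    exact ⟨_, norm_P0 hF hc (rx_mem_Zg (by decide)), rfl⟩
  have h1 := List.all_eq_true.1 om_ok.2.2 n (List.mem_range.2 hn)
  simp only [Bool.or_eq_true, beq_iff_eq] at h1
  rcases h1 with ((rfl | rfl) | h1) | h1
  · rw [zc_zero, map_one, mul_one, mul_inv_cancel]; exact one_mem _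
  · rw [h64, hgt]; exact mem_map_of_mem f (rx_mem_Zg (by decide))
  · exact hu n hn h1 h
  · have e : g * f (zc F n) * g⁻¹ = g * f (zc F (n ^^^ 64)) * g⁻¹ * f (rx F 47) := by
      rw [show f (zc F n) = f (zc F (n ^^^ 64)) * f (rx F 47) by
        rw [← map_mul, ← h64, ← zc_xor hF, Nat.xor_assoc, Nat.xor_self, Nat.xor_zero]]
      calc _ = g * f (zc F (n ^^^ 64)) * g⁻¹ * (g * f (rx F 47) * g⁻¹) := by group
        _ = _ := by rw [hgt]
    rw [e] at h ⊢
    exact mul_mem (hu _ (Nat.xor_lt_two_pow (n := 7) hn (by norm_num)) h1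
      ((mul_mem_cancel_right (S.mem _)).1 h)) (mem_map_of_mem f (rx_mem_Zg (by decide)))

/-- A subgroup with the index-two product property is the kernel of a functional. -/
theorem Setup.hyper (S : Setup f H) {J : Subgroup G} (ht : f (rx F 47) ∈ J)
    (hJ : ∀ a ∈ (Zg F).map f, ∀ b ∈ (Zg F).map f, a ∉ J → b ∉ J → a * b ∈ J) :
    ∃ φ < 64, ∀ n < 128, (dot φ n = 0 ↔ f (zc F n) ∈ J) := by
  classical
  have hF := S.card_F
  let φ := Nat.ofBits fun i : Fin 7 => decide (f (rx F (zi i)) ∉ J)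
  have hφ : ∀ i (hi : i < 7), φ.testBit i = decide (f (rx F (zi i)) ∉ J) := fun i hi =>
    Nat.testBit_ofBits_lt _ i hi
  have h64 : φ < 64 := Nat.lt_pow_two_of_testBit (n := 6) φ fun i hi => by
    rcases Nat.lt_or_ge i 7 with h7 | h7
    · obtain rfl : i = 6 := by omega
      rw [hφ 6 h7, decide_eq_false_iff_not, not_not]; exact ht
    · exact Nat.testBit_ofBits_ge _ i h7
  refine ⟨φ, h64, fun n _ => ?_⟩
  have e : bits (φ &&& n) = (bits n).filter φ.testBit := by
    unfold bits
    rw [List.filter_filter]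
    exact List.filter_congr fun i _ => by rw [Nat.testBit_land]
  have hl : ∀ l : List ℕ, (∀ i ∈ l, i < 7) →
      ((l.filter φ.testBit).length % 2 = 0 ↔ f (rp F (l.map zi)) ∈ J) := by
    intro l
    induction l with
    | nil => simp [rp]
    | cons i l ih =>
      intro hl
      have hi := hl i List.mem_cons_self
      have ih := ih fun j hj => hl j (List.mem_cons_of_mem i hj)
      have hZ : ∀ l' : List ℕ, (∀ j ∈ l', j < 7) → f (rp F (l'.map zi)) ∈ (Zg F).map f := fun l' hl' =>
        mem_map_of_mem f (list_prod_mem fun x hx => by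
          obtain ⟨_, hq, rfl⟩ := List.mem_map.1 hx
          obtain ⟨j, hj, rfl⟩ := List.mem_map.1 hq
          exact subset_closure ⟨j, hl' j hj, rfl⟩)
      have e1 : f (rp F ((i :: l).map zi)) = f (rx F (zi i)) * f (rp F (l.map zi)) := by simp [rp]
      rw [e1, List.filter_cons, hφ i hi]
      by_cases hm : f (rx F (zi i)) ∈ J
      · simp only [hm, not_true_eq_false, decide_false, Bool.false_eq_true, if_false, mul_mem_cancel_left hm]
        exact ih
      · simp only [hm, not_false_eq_true, decide_true, if_true, List.length_cons]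
        constructor
        · intro h2
          refine hJ _ (mem_map_of_mem f (subset_closure ⟨i, hi, rfl⟩)) _
            (hZ l fun j hj => hl j (List.mem_cons_of_mem i hj)) hm fun hc => ?_
          have := ih.2 hc
          omega
        · intro h2
          by_contra h3
          exact hm ((mul_mem_cancel_right (ih.1 (by omega))).1 h2)
  rw [dot, e]
  exact hl (bits n) fun i hi => List.mem_range.1 (List.mem_filter.1 hi).1

theorem Setup.card_map (S : Setup f H) : Nat.card ((Zg F).map f) = 128 := by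
  rw [card_map_of_injective S.inj, card_Zg S.card_F]

/-- A hyperplane's centralizer. -/
theorem Setup.base (S : Setup f H) {I : Subgroup G} (hIZ : I ≤ (Zg F).map f) (ht : f (rx F 47) ∈ I)
    (hcard : Nat.card ((Zg F).map f) ≤ 2 * Nat.card I) : centralizer (I : Set G) ≤ H := by
  have hF := S.card_F
  obtain ⟨φ, hφ64, hφ⟩ := S.hyper ht fun a ha b hb hna hnb => by
    set Z := (Zg F).map f
    have h1 := card_mul_index (I.subgroupOf Z)
    rw [Nat.card_congr (subgroupOfEquivOfLe hIZ).toEquiv] at h1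
    have hpos : 0 < Nat.card I := Nat.card_pos
    have h2 : (I.subgroupOf Z).index ≠ 1 := fun h => hna (by
      rw [index_eq_one, subgroupOf_eq_top] at h; exact h ha)
    have h3 : (I.subgroupOf Z).index = 2 := by
      have : (I.subgroupOf Z).index ≤ 2 := by
        rw [← h1] at hcard
        exact Nat.le_of_mul_le_mul_left (by linarith) hpos
      have := index_ne_zero_of_finite (H := I.subgroupOf Z)
      omega
    exact (mul_mem_iff_of_index_two h3 (a := (⟨a, ha⟩ : Z)) (b := ⟨b, hb⟩)).2 (iff_of_false hna hnb)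
  obtain ⟨ψ, hψ0, hψ64, hψ⟩ : ∃ ψ, ψ ≠ 0 ∧ ψ < 64 ∧ ∀ n < 128, dot ψ n = 0 → f (zc F n) ∈ I := by
    by_cases h : φ = 0
    · refine ⟨1, one_ne_zero, by norm_num, fun n hn _ => (hφ n hn).1 ?_⟩
      rw [h, dot_zero]
    · exact ⟨φ, h, hφ64, fun n hn => (hφ n hn).1⟩
  obtain ⟨p, hp, hpq⟩ := fun_conj hF (F := F) hψ0 hψ64
  obtain ⟨a, ha, b, hb, ha3, hb3, hab, hbz, han, hbn⟩ := nine hF (F := F)
  set A := closure ({f a, f b} : Set G) with hA
  haveI : IsMulCommutative A := isMulCommutative_closure (by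
    rintro x (rfl | rfl) y (rfl | rfl) <;> first | rfl | exact (hab.map f).eq | exact (hab.map f).eq.symm)
  have hA3 : ∀ x ∈ A, x ^ 3 = 1 := by
    intro x hx
    induction hx using closure_induction with
    | mem y hy =>
      rcases hy with rfl | rfl
      · rw [← map_pow, ← ha3, pow_orderOf_eq_one, map_one]
      · rw [← map_pow, ← hb3, pow_orderOf_eq_one, map_one]
    | one => exact one_pow 3
    | mul y z hy hz h1 h2 =>
      have hc : Commute y z := congrArg Subtype.val (mul_comm' (⟨y, hy⟩ : A) ⟨z, hz⟩)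
      rw [hc.mul_pow, h1, h2, one_mul]
    | inv y _ h1 => rw [inv_pow, h1, inv_one]
  haveI : Fact (Nat.Prime 3) := ⟨Nat.prime_three⟩
  have hAp : IsPGroup 3 A := fun x => ⟨1, Subtype.ext (by simpa using hA3 x x.2)⟩
  have hAc : ¬ IsCyclic A := by
    intro hc
    obtain ⟨x, hx⟩ := hc.exists_generator
    have hfa : f a ∈ A := subset_closure (Set.mem_insert _ _)
    have hle : Nat.card A ≤ 3 := by
      rw [← orderOf_eq_card_of_forall_mem_zpowers hx, ← Subgroup.orderOf_coe]
      exact Nat.le_of_dvd (by norm_num) (orderOf_dvd_of_pow_eq_one (hA3 x x.2))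
    have he : zpowers (f a) = A := eq_of_le_of_card_ge (zpowers_le.2 hfa)
      (by rw [Nat.card_zpowers, orderOf_injective f S.inj, ha3]; exact hle)
    obtain ⟨k, hk⟩ := mem_zpowers_iff.1 (he ▸ subset_closure (Set.mem_insert_of_mem _ rfl) : f b ∈ zpowers (f a))
    exact hbz (mem_zpowers_iff.2 ⟨k, S.inj (by rw [map_zpow, hk])⟩)
  have hC : centralizer (((I0 F).map f : Subgroup G) : Set G) ≤ H := by
    refine S.holds.le_of_nine hAp ((closure_le _).2 ?_) hAc ((closure_le _).2 ?_) fun x hx hxH h3 => ?_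
    · rintro x (rfl | rfl) <;> exact S.mem _
    · have hN : ∀ x ∈ normalizer (I0 F : Set (FM F)),
          f x ∈ normalizer (centralizer (((I0 F).map f : Subgroup G) : Set G) : Set G) := by
        intro x hx
        refine mem_normalizer_fintype fun y hy => mem_centralizer_iff.2 ?_
        rintro _ ⟨z, hz, rfl⟩
        have h1 := mem_centralizer_iff.1 hy (f (x⁻¹ * z * x)) ⟨_, by
          have := (mem_normalizer_iff.1 (inv_mem hx) z).1 hz
          rwa [inv_inv] at this, rfl⟩
        simp only [map_mul, map_inv] at h1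
        calc f z * (f x * y * (f x)⁻¹) = f x * ((f x)⁻¹ * f z * f x * y) * (f x)⁻¹ := by group
          _ = f x * (y * ((f x)⁻¹ * f z * f x)) * (f x)⁻¹ := by rw [h1]
          _ = f x * y * (f x)⁻¹ * f z := by group
      rintro x (rfl | rfl)
      · exact hN a han
      · exact hN b hbn
    · obtain ⟨d, -, rfl⟩ := S.cap_P0 hxH
        (mem_centralizer_iff.1 hx _ (mem_map_of_mem f (subset_closure ⟨47, by decide, rfl⟩))).symm
      exact cent_I0 hF (d := d) (fun z hz => S.inj (by
        rw [map_mul, map_mul]; exact (mem_centralizer_iff.1 hx _ (mem_map_of_mem f hz)).symm))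
        (by rw [← orderOf_injective f S.inj]; exact h3)
  intro g hg
  have h1 : (f p)⁻¹ * g * f p ∈ H := hC (mem_centralizer_iff.2 (by
    rintro _ ⟨z, hz, rfl⟩
    obtain ⟨n, hn, hn2, rfl⟩ := (mem_I0 hF).1 hz
    obtain ⟨m, hm, e, hd⟩ := hpq n hn
    have h2 := mem_centralizer_iff.1 hg _ (hψ m hm (hd.trans hn2))
    rw [← e, map_mul, map_mul, map_inv] at h2
    calc f (zc F n) * ((f p)⁻¹ * g * f p) = (f p)⁻¹ * (f p * f (zc F n) * (f p)⁻¹ * g) * f p := by group
      _ = (f p)⁻¹ * (g * (f p * f (zc F n) * (f p)⁻¹)) * f p := by rw [h2]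
      _ = (f p)⁻¹ * g * f p * f (zc F n) := by group))
  rw [show g = f p * ((f p)⁻¹ * g * f p) * (f p)⁻¹ by group]
  exact mul_mem (mul_mem (S.mem p) h1) (inv_mem (S.mem p))

/-- The normalizer of Z in the centralizer of the long root involution. -/
theorem Setup.nz (S : Setup f H) (g : G) (hg : g * f (rx F 47) = f (rx F 47) * g)
    (hgZ : ∀ y ∈ (Zg F).map f, g * y * g⁻¹ ∈ (Zg F).map f) : g ∈ H := by
  have hF := S.card_F
  have h64 : zc F 64 = rx F 47 := by rw [show (64 : ℕ) = 2 ^ 6 by norm_num, zc_pow (by norm_num)]; rfl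
  have hu : ∀ (k : G), k * f (rx F 47) = f (rx F 47) * k → ∀ n < 128, omN.testBit n = true → ∀ m < 128,
      k * f (zc F n) * k⁻¹ = f (zc F m) → omN.testBit m = true := by
    intro k hk n hn hom m hm e
    obtain ⟨p, hp, ep⟩ := om_conj hF hn hom
    have hkp : k * f p * f (rx F 47) = f (rx F 47) * (k * f p) := by
      rw [mul_assoc, (S.comm_P0 hp).eq, ← mul_assoc, hk, mul_assoc]
    have e' : k * f p * f (rx F 44) * (k * f p)⁻¹ = f (zc F m) := by
      rw [← e, ← ep, map_mul, map_mul, map_inv]; group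
    obtain ⟨c, hc, ec⟩ := S.sc_u hkp (e' ▸ S.mem _)
    have hcm : c * rx F 44 * c⁻¹ = zc F m := S.inj (ec.symm.trans e')
    have h1 := List.all_eq_true.1 om_ok.2.2 m (List.mem_range.2 hm)
    simp only [Bool.or_eq_true, beq_iff_eq] at h1
    rcases h1 with ((rfl | rfl) | h1) | h1
    · rw [zc_zero, conj_eq_one_iff] at hcm
      exact absurd hcm (rx_ne_one (by norm_num))
    · rw [h64] at hcm
      exact absurd (show c⁻¹ * rx F 47 * c⁻¹⁻¹ = rx F 44 by rw [← hcm]; group) ((classes hF).2.2 _).1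
    · exact h1
    · obtain ⟨p', hp', ep'⟩ := om_conj hF (Nat.xor_lt_two_pow (n := 7) hm (by norm_num : 64 < 2 ^ 7)) h1
      refine absurd ?_ ((classes hF).2.2 (p'⁻¹ * c)).2.2
      have hm' : zc F m = rx F 47 * (p' * rx F 44 * p'⁻¹) := by
        rw [ep', ← h64, ← zc_xor hF, Nat.xor_comm m, ← Nat.xor_assoc, Nat.xor_self, Nat.zero_xor]
      calc p'⁻¹ * c * rx F 44 * (p'⁻¹ * c)⁻¹ = p'⁻¹ * (c * rx F 44 * c⁻¹) * p' := by group
        _ = p'⁻¹ * rx F 47 * p' * rx F 44 := by rw [hcm, hm']; group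
        _ = rx F 47 * rx F 44 := by
          rw [mul_assoc p'⁻¹, ← Subgroup.mem_centralizer_singleton_iff.1 hp', inv_mul_cancel_left]
  have steps_ind : ∀ k ≤ 6, ∃ p ∈ P0 F, ∀ n ∈ fixd k,
      g * f (zc F n) * g⁻¹ = f p * f (zc F n) * (f p)⁻¹ := by
    intro k hk
    induction k with
    | zero =>
      refine ⟨1, one_mem _, fun n hn => ?_⟩
      obtain rfl : n = 64 := by simpa [fixd] using hn
      rw [h64, hg, mul_inv_cancel_right, map_one, one_mul, inv_one, mul_one]
    | succ k ih =>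
      obtain ⟨p, hp, hfix⟩ := ih (by omega)
      have hs := List.all_eq_true.1 steps_ok k (List.mem_range.2 (by omega))
      simp only [Bool.and_eq_true, Nat.blt_eq] at hs
      set e := (steps.getD k (0, [])).1
      set g' := (f p)⁻¹ * g with hg'
      have hg't : g' * f (rx F 47) = f (rx F 47) * g' := by
        rw [hg', mul_assoc, hg, ← mul_assoc, (S.comm_P0 hp).inv_left.eq, mul_assoc]
      have hg'fix : ∀ n ∈ fixd k, g' * f (zc F n) * g'⁻¹ = f (zc F n) := fun n hn => by
        rw [show g' * f (zc F n) * g'⁻¹ = (f p)⁻¹ * (g * f (zc F n) * g⁻¹) * f p by rw [hg']; group, hfix n hn]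
        group
      have hspan : ∀ l : List ℕ, (∀ n ∈ l, g' * f (zc F n) * g'⁻¹ = f (zc F n)) →
          ∀ c ∈ span l, g' * f (zc F c) * g'⁻¹ = f (zc F c) := by
        intro l
        induction l with
        | nil =>
          intro _ c hc
          rw [List.mem_singleton.1 hc, zc_zero, map_one, mul_one, mul_inv_cancel]
        | cons a l ih =>
          intro hl c hc
          have ih := ih fun n hn => hl n (List.mem_cons_of_mem a hn)
          rcases List.mem_append.1 hc with hc | hc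
          · exact ih c hc
          · obtain ⟨d, hd, rfl⟩ := List.mem_map.1 hc
            rw [zc_xor hF, map_mul, show g' * (f (zc F a) * f (zc F d)) * g'⁻¹ =
              g' * f (zc F a) * g'⁻¹ * (g' * f (zc F d) * g'⁻¹) by group, hl a List.mem_cons_self, ih d hd]
      obtain ⟨z, hz, hze⟩ : g' * f (zc F e) * g'⁻¹ ∈ (Zg F).map f := by
        obtain ⟨z, hz, hze⟩ := hgZ _ (mem_map_of_mem f ((mem_Zg hF).2 ⟨e, hs.1.1.2, rfl⟩))
        refine ⟨p⁻¹ * z * p, by simpa using norm_P0 hF (inv_mem hp) hz, ?_⟩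
        rw [map_mul, map_mul, map_inv, hze, hg']
        group
      obtain ⟨m, hm, rfl⟩ := (mem_Zg hF).1 hz
      have hcand : cand k m = true := by
        simp only [cand, Bool.and_eq_true, List.all_eq_true, Bool.or_eq_true]
        refine ⟨hu g' hg't e hs.1.1.2 hs.1.2 m hm hze.symm, fun c hc => ?_⟩
        rcases Bool.eq_false_or_eq_true (omN.testBit (e ^^^ c)) with he | he
        · have hc128 : c < 128 := Nat.blt_eq ▸ List.all_eq_true.1
            (List.all_eq_true.1 span_lt k (List.mem_range.2 (by omega))) c hc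
          refine Or.inr (hu g' hg't _ (Nat.xor_lt_two_pow (n := 7) hs.1.1.2 hc128) he _
            (Nat.xor_lt_two_pow (n := 7) hm hc128) ?_)
          rw [zc_xor hF, map_mul, show g' * (f (zc F e) * f (zc F c)) * g'⁻¹ =
            g' * f (zc F e) * g'⁻¹ * (g' * f (zc F c) * g'⁻¹) by group, hspan _ hg'fix c hc, ← hze, ← map_mul,
            ← zc_xor hF]
        · exact Or.inl (by rw [he]; rfl)
      obtain ⟨q, hq, hqf, hqe⟩ := stab_step hF (F := F) (by omega) hm hcand
      refine ⟨p * q, mul_mem hp hq, fun n hn => ?_⟩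
      have hsucc := beq_iff_eq.1 (List.all_eq_true.1 fixd_succ k (List.mem_range.2 (by omega)))
      rw [hsucc, List.mem_append, List.mem_singleton] at hn
      have key : g' * f (zc F n) * g'⁻¹ = f (q * zc F n * q⁻¹) := by
        rcases hn with hn | rfl
        · rw [hqf n hn, hg'fix n hn]
        · rw [hqe, hze]
      rw [map_mul, map_mul, map_inv] at key
      calc g * f (zc F n) * g⁻¹ = f p * (g' * f (zc F n) * g'⁻¹) * (f p)⁻¹ := by rw [hg']; group
        _ = _ := by rw [key, map_mul]; group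
  obtain ⟨p, hp, hfix⟩ := steps_ind 6 le_rfl
  have h1 : (f p)⁻¹ * g ∈ H := by
    refine S.base le_rfl (mem_map_of_mem f (rx_mem_Zg (by decide))) (by omega) (mem_centralizer_iff.2 ?_)
    rintro _ ⟨z, hz, rfl⟩
    refine Commute.eq ?_
    induction hz using Subgroup.closure_induction with
    | mem x hx =>
      obtain ⟨i, hi, rfl⟩ := hx
      have h := List.all_eq_true.1 fixd_all i (List.mem_range.2 hi)
      have h2 := hfix (2 ^ i) (List.contains_iff_mem.1 h)
      rw [zc_pow hi] at h2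
      calc f (rx F (zi i)) * ((f p)⁻¹ * g) = (f p)⁻¹ * (f p * f (rx F (zi i)) * (f p)⁻¹) * g := by group
        _ = (f p)⁻¹ * (g * f (rx F (zi i)) * g⁻¹) * g := by rw [h2]
        _ = (f p)⁻¹ * g * f (rx F (zi i)) := by group
    | one => rw [map_one]; exact Commute.one_left _
    | mul x y _ _ hx hy => rw [map_mul]; exact hx.mul_left hy
    | inv x _ hx => rw [map_inv]; exact hx.inv_left
  rw [show g = f p * ((f p)⁻¹ * g) by group]
  exact mul_mem (S.mem p) h1

theorem Setup.env (S : Setup f H) : Env H ((Zg F).map f) (f (rx F 47)) where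
  le := by rintro _ ⟨z, -, rfl⟩; exact S.mem z
  mem := mem_map_of_mem f (rx_mem_Zg (by decide))
  comm := by
    rintro _ ⟨a, ha, rfl⟩ _ ⟨b, hb, rfl⟩
    obtain ⟨m, -, rfl⟩ := (mem_Zg S.card_F).1 ha
    obtain ⟨n, -, rfl⟩ := (mem_Zg S.card_F).1 hb
    rw [← map_mul, ← map_mul, zc_comm S.card_F]
  sq := by
    rintro _ ⟨a, ha, rfl⟩
    obtain ⟨m, -, rfl⟩ := (mem_Zg S.card_F).1 ha
    rw [← map_mul, zc_sq S.card_F, map_one]
  sc := S.sc
  nz := S.nz

/-- The centralizer of the long root involution lies in `H`. -/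
theorem Setup.cent_long (S : Setup f H) : centralizer ({f (rx F 47)} : Set G) ≤ H := by
  have hF := S.card_F
  have E := S.env
  set Z := (Zg F).map f with hZ
  set t := f (rx F 47) with ht
  suffices h : centralizer (zpowers t : Set G) ≤ H by
    rwa [zpowers_eq_closure, centralizer_closure] at h
  refine E.all_good (fun I h1 h2 h3 => S.base h1 h2 h3) (fun I hIZ htI hlt => ?_) _
    (zpowers_le.2 E.mem) (mem_zpowers t)
  obtain ⟨M, hIM, hM⟩ := Finite.exists_le_maximal (a := I) (p := fun M : Subgroup G => I ≤ M ∧ M < Z)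
    ⟨le_rfl, lt_of_le_of_ne hIZ fun e => by rw [e] at hlt; omega⟩
  have hMZ : M < Z := hM.prop.2
  have hprod : ∀ a ∈ Z, ∀ b ∈ Z, a ∉ M → b ∉ M → a * b ∈ M := by
    intro a ha b hb hna hnb
    let M' : Subgroup G :=
      { carrier := {x | x ∈ M ∨ a * x ∈ M}
        one_mem' := Or.inl (one_mem M)
        inv_mem' := fun {x} hx => by
          rcases hx with hx | hx
          · exact Or.inl (inv_mem hx)
          · have hxZ : x ∈ Z := (mul_mem_cancel_left ha).1 (hMZ.le hx)
            exact Or.inr (by rwa [inv_eq_of_mul_eq_one_right (E.sq x hxZ)])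
        mul_mem' := fun {x y} hx hy => by
          rcases hx with hx | hx <;> rcases hy with hy | hy
          · exact Or.inl (mul_mem hx hy)
          · exact Or.inr (by rw [← mul_assoc, E.comm a ha x (hMZ.le hx), mul_assoc]; exact mul_mem hx hy)
          · exact Or.inr (by rw [← mul_assoc]; exact mul_mem hx hy)
          · have hxZ : x ∈ Z := (mul_mem_cancel_left ha).1 (hMZ.le hx)
            refine Or.inl ?_
            have e : x * y = a * x * (a * y) := by
              rw [E.comm a ha x hxZ, mul_assoc, ← mul_assoc a a y, E.sq a ha, one_mul]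
            rw [e]; exact mul_mem hx hy }
    by_contra hab
    have hM' : M ≤ M' := fun x hx => Or.inl hx
    have hlt' : M' < Z := by
      refine lt_of_le_of_ne (fun x hx => ?_) fun e => ?_
      · rcases hx with hx | hx
        · exact hMZ.le hx
        · exact (mul_mem_cancel_left ha).1 (hMZ.le hx)
      · rcases (e.symm ▸ hb : b ∈ M') with h | h
        · exact hnb h
        · exact hab h
    exact hna (hM.eq_of_ge ⟨hIM.trans hM', hlt'⟩ hM' ▸ (Or.inr (by rw [E.sq a ha]; exact one_mem M) : a ∈ M'))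
  obtain ⟨φ, hφ64, hφ⟩ := S.hyper (hIM htI) hprod
  have hφ0 : φ ≠ 0 := by
    rintro rfl
    refine hMZ.not_ge ?_
    rintro _ ⟨z, hz, rfl⟩
    obtain ⟨n, hn, rfl⟩ := (mem_Zg hF).1 hz
    exact (hφ n hn).1 (dot_zero n)
  obtain ⟨p, hp, hpq⟩ := fun_conj hF (F := F) hφ0 hφ64
  -- `I` lies in the conjugate of the hyperplane
  have hIp : ∀ x ∈ I, ∃ z ∈ I0 F, x = f (p * z * p⁻¹) := by
    intro x hx
    obtain ⟨_, hzz, rfl⟩ := hIZ hx
    obtain ⟨n, hn, rfl⟩ := (mem_Zg hF).1 hzz
    obtain ⟨k, hk, hk'⟩ := (mem_Zg hF).1 (norm_P0 hF (inv_mem hp) ((mem_Zg hF).2 ⟨n, hn, rfl⟩))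
    obtain ⟨m, hm, e, hd⟩ := hpq k hk
    have emn : m = n := zc_inj hF hm hn (by rw [← e, ← hk']; group)
    subst emn
    exact ⟨zc F k, (mem_I0 hF).2 ⟨k, hk, by rw [← hd]; exact (hφ m hm).2 (hIM hx), rfl⟩, by rw [e]⟩
  obtain ⟨hfour, hcov⟩ := four_spans hF (F := F)
  obtain ⟨L, hL, a, ha, haI⟩ : ∃ L ∈ words, ∃ a ∈ Ahi F, f (p * (nw F L * a * (nw F L)⁻¹) * p⁻¹) ∉ I := by
    by_contra hall
    push Not at hall
    have hI0 := hcov (I.comap (f.comp (MulAut.conj p).toMonoidHom)) hall
    have hMI : M ≤ I := by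
      intro x hx
      obtain ⟨_, hzz, rfl⟩ := hMZ.le hx
      obtain ⟨n, hn, rfl⟩ := (mem_Zg hF).1 hzz
      obtain ⟨k, hk, hk'⟩ := (mem_Zg hF).1 (norm_P0 hF (inv_mem hp) ((mem_Zg hF).2 ⟨n, hn, rfl⟩))
      obtain ⟨m, hm, e, hd⟩ := hpq k hk
      have emn : m = n := zc_inj hF hm hn (by rw [← e, ← hk']; group)
      subst emn
      have h := hI0 ((mem_I0 hF).2 ⟨k, hk, by rw [← hd]; exact (hφ m hm).2 hx, rfl⟩)
      rw [← e]
      exact h
    have hidx : (M.subgroupOf Z).index = 2 := by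
      obtain ⟨a, haZ, haM⟩ := SetLike.exists_of_lt hMZ
      refine index_eq_two_iff.2 ⟨⟨a, haZ⟩, fun b => ?_⟩
      by_cases hb : (b : G) ∈ M
      · exact Or.inr ⟨hb, fun h => haM ((mul_mem_cancel_left hb).1 h)⟩
      · exact Or.inl ⟨hprod _ b.2 _ haZ hb haM, hb⟩
    have h1 := card_mul_index (M.subgroupOf Z)
    rw [hidx, Nat.card_congr (subgroupOfEquivOfLe hMZ.le).toEquiv] at h1
    have := card_le_of_le hMI
    omega
  obtain ⟨hLP, hLI⟩ := hfour L hL
  set q := p * nw F L with hq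
  have hqP : q ∈ P0 F := mul_mem hp hLP
  set A₀ := (Ahi F).map (f.comp (MulAut.conj q).toMonoidHom) with hA₀
  have hconj : ∀ x, (f.comp (MulAut.conj q).toMonoidHom) x = f (p * (nw F L * x * (nw F L)⁻¹) * p⁻¹) := fun x => by
    simp only [MonoidHom.coe_comp, Function.comp_apply, MulEquiv.coe_toMonoidHom, MulAut.conj_apply, hq]
    group
  have hA : ∀ x ∈ A₀ ⊔ I, ∃ z ∈ I0 F, x = f (p * z * p⁻¹) := by
    have hle : A₀ ⊔ I ≤ (I0 F).map (f.comp (MulAut.conj p).toMonoidHom) := sup_le (by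
      rintro _ ⟨x, hx, rfl⟩
      exact ⟨_, hLI x hx, (hconj x).symm⟩) (fun x hx => by
      obtain ⟨z, hz, rfl⟩ := hIp x hx
      exact ⟨z, hz, rfl⟩)
    intro x hx
    obtain ⟨z, hz, rfl⟩ := hle hx
    exact ⟨z, hz, rfl⟩
  have hI0Z : ∀ z ∈ I0 F, z ∈ Zg F := fun z hz => by
    obtain ⟨n, hn, -, e⟩ := (mem_I0 hF).1 hz
    exact (mem_Zg hF).2 ⟨n, hn, e⟩
  refine ⟨f (q * rx F 46 * q⁻¹), A₀ ⊔ I, S.mem _, ?_, ?_, ?_, le_sup_right, ?_, ?_, ?_, ?_⟩
  · rintro _ ⟨z, hz, rfl⟩
    have h := comm_Zg hF (show 46 < 48 by norm_num) z46_ok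
      (show q⁻¹ * z * q ∈ Zg F by simpa using norm_P0 hF (inv_mem hqP) hz)
    rw [← map_mul, ← map_mul]
    refine congrArg f ?_
    have := (h.map (MulAut.conj q).toMonoidHom).eq
    simp only [MulEquiv.coe_toMonoidHom, MulAut.conj_apply] at this
    rwa [show q * (q⁻¹ * z * q) * q⁻¹ = z by group] at this
  · rintro ⟨z, hz, e⟩
    rw [S.inj.eq_iff] at e
    subst e
    have := root_Zg hF (show 46 < 48 by norm_num) (by simpa [mul_assoc] using norm_P0 hF (inv_mem hqP) hz)
    revert this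
    decide
  · rw [← map_mul, show q * rx F 46 * q⁻¹ * (q * rx F 46 * q⁻¹) = q * (rx F 46 * rx F 46) * q⁻¹ by group,
      rx_sq hF, mul_one, mul_inv_cancel, map_one]
    exact one_mem I
  · intro x hx
    obtain ⟨z, hz, rfl⟩ := hA x hx
    exact mem_map_of_mem f (norm_P0 hF hp (hI0Z z hz))
  · exact ⟨(f.comp (MulAut.conj q).toMonoidHom) a, mem_sup_left (mem_map_of_mem _ ha), by rw [hconj]; exact haI⟩
  · refine ⟨_, mem_map_of_mem f (norm_P0 hF hp ((mem_Zg hF).2 ⟨1, by norm_num, rfl⟩)), fun h => ?_⟩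
    obtain ⟨z, hz, e⟩ := hA _ h
    obtain ⟨n, hn, hn2, rfl⟩ := (mem_I0 hF).1 hz
    have := zc_inj hF (by norm_num) hn (mul_left_cancel (mul_right_cancel (S.inj e)))
    omega
  · intro k hkH hkI hk v hv
    obtain ⟨kk, hkP, rfl⟩ := S.cap_P0 hkH (mem_centralizer_iff.1 hkI t htI).symm
    have hk' : q⁻¹ * kk * q ∈ P0 F := mul_mem (mul_mem (inv_mem hqP) hkP) hqP
    have h46 : q⁻¹ * kk * q * rx F 46 * (q⁻¹ * kk * q)⁻¹ * rx F 46 ∈ Zg F := by
      obtain ⟨z, hz, e⟩ := hk
      have e1 : z = kk * (q * rx F 46 * q⁻¹) * kk⁻¹ * (q * rx F 46 * q⁻¹)⁻¹ := S.inj (by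
        rw [e]; simp only [map_mul, map_inv])
      have := norm_P0 hF (inv_mem hqP) hz
      rw [e1] at this
      convert this using 1
      rw [mul_inv_rev (q * rx F 46), mul_inv_rev q, rx_inv hF]
      group
    have hle : A₀ ⊔ I ≤ (A₀ ⊔ I).comap (MulAut.conj (f kk)).toMonoidHom := sup_le (by
      rintro _ ⟨x, hx, rfl⟩
      refine mem_sup_left ⟨_, inv_46 hF hk' h46 hx, ?_⟩
      simp only [MonoidHom.coe_comp, Function.comp_apply, MulEquiv.coe_toMonoidHom, MulAut.conj_apply]
      rw [← map_inv, ← map_mul, ← map_mul]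
      exact congrArg f (by group)) (fun x hx => by
      refine mem_sup_right ?_
      show f kk * x * (f kk)⁻¹ ∈ I
      rw [← mem_centralizer_iff.1 hkI x hx, mul_inv_cancel_right]; exact hx)
    exact hle hv

end Cfsg.Agent.FFourLocal.Ctrl
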