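import Cfsg.Agent.Lib.FFourLocal.Ctrl.Centre
import Cfsg.Agent.S2174
import Cfsg.Agent.S2179

/-!
# Involutions of F₄(2) and elements of order three centralizing them

The four classes, elements of order three commuting with pairs, and the data of the hyperplane of Z.
-/

set_option autoImplicit false
set_option linter.style.haveILetI false
set_option maxRecDepth 20000

namespace Cfsg.Agent.FFourLocal.Ctrl

open Cfsg.Lie Cfsg.Agent.Chevalley Cfsg.Agent.Chevalley.Group
open Cfsg.Agent.F4TwoMult (hC tm off com w)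

universe u

/-- The roots of the hyperplane. -/
def Il : List ℕ := [36, 38, 39, 40, 44, 47]

/-- The pair `±r` commutes with the root `q`. -/
def pairFix (q r : ℕ) : Bool :=
  Nat.blt r 48 && Nat.blt (chevF4.neg r) 48 && (r == q || com r q) && (chevF4.neg r == q || com (chevF4.neg r) q)

theorem pairs_ok : ((List.range 48).all fun b => !(b == 47 || com b 47) ||
    (List.range 48).any fun r => pairFix 47 r && pairFix b r) = true := by decide +kernel

theorem central_ok : ((List.range' 24 24).all fun r => [44, 47].all fun s => r == s || com r s) = true := by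
  decide +kernel

theorem bad47_ok : ((List.range 48).all fun b => b == 47 || com b 47 || b == chevF4.neg 47 ||
    (off b 47 && match tm b 47 with
      | [q] => Nat.blt q 48
      | [q, q'] => Nat.blt q 48 && Nat.blt q' 48 && q != q'
      | _ => false)) = true := by decide +kernel

theorem nine_ok : pairFix 47 25 = true ∧ pairFix 47 30 = true ∧
    ([25, chevF4.neg 25].all fun a => [30, chevF4.neg 30].all fun b => com a b) = true ∧
    ([25, chevF4.neg 25, 30, chevF4.neg 30].all fun r => Il.all fun q => off r q && (tm r q).all (Il.contains ·)) = true ∧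
    ncs 30 (chevF4.neg 30) = false := ⟨by decide +kernel, by decide +kernel, by decide +kernel, by decide +kernel, by decide +kernel⟩

theorem xor_two (a b : ℕ) : (a ^^^ b) % 2 = (a % 2) ^^^ (b % 2) := Nat.xor_mod_two_pow (n := 1)

theorem il_ok : (Il.all fun q => Nat.blt (Zl.idxOf q) 7 && 2 ^ Zl.idxOf q % 2 == 0) = true ∧
    ((List.range 128).all fun n => !(n % 2 == 0) || (bits n).all fun i => Il.contains (zi i)) = true :=
  ⟨by decide +kernel, by decide +kernel⟩

/-- The four words. -/
def words : List (List ℕ) := [[], [2], [1, 2], [2, 1, 2]]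

theorem words_ok : (words.all fun L => L.all (fun i => Nat.blt i 4) && F4TwoMult.wT L 47 == 47 &&
      [39, 40, 44, 47].all fun q => Il.contains (F4TwoMult.wT L q)) = true ∧
    (Il.all fun q => words.any fun L => [39, 40, 44, 47].any fun x => F4TwoMult.wT L x == q) = true :=
  ⟨by decide +kernel, by decide +kernel⟩

variable (F : Type u) [Field F]

/-- The hyperplane of Z. -/
noncomputable def I0 : Subgroup (FM F) := Subgroup.closure {g | ∃ q ∈ Il, g = rx F q}

variable {F} [Fintype F] (hF : Fintype.card F = 2)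
include hF

/-- A pair commuting with a root gives an element of order three commuting with it. -/
theorem pair_comm {q r : ℕ} (hq : q < 48) (h : pairFix q r = true) :
    Commute (rx F r * rx F (chevF4.neg r)) (rx F q) := by
  simp only [pairFix, Bool.and_eq_true, Bool.or_eq_true, beq_iff_eq, Nat.blt_eq] at h
  obtain ⟨⟨⟨hr, hn⟩, h1⟩, h2⟩ := h
  refine Commute.mul_left ?_ ?_
  · rcases h1 with e | e
    · rw [e]; exact Commute.refl _
    · exact rx_comm hF hr hq e
  · rcases h2 with e | e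
    · rw [e]; exact Commute.refl _
    · exact rx_comm hF hn hq e

omit hF [Fintype F] in
theorem pair_lt {q r : ℕ} (h : pairFix q r = true) : r < 48 := by
  simp only [pairFix, Bool.and_eq_true, Nat.blt_eq] at h
  exact h.1.1.1

theorem pair_mem_P0 {r : ℕ} (h : pairFix 47 r = true) : rx F r * rx F (chevF4.neg r) ∈ P0 F :=
  Subgroup.mem_centralizer_singleton_iff.2 (pair_comm hF (by norm_num) h).eq

/-- The short root involution is centralized by an element of order three of the centralizer. -/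
theorem three_u : ∃ e ∈ P0 F, orderOf e = 3 ∧ Commute e (rx F 44) :=
  ⟨_, pair_mem_P0 hF (r := 25) (by decide +kernel), three hF (by norm_num),
    pair_comm hF (by norm_num) (by decide +kernel)⟩

theorem upos_comm {g : FM F} (hg : g ∈ upos F) {s : ℕ} (hs : s = 44 ∨ s = 47) : Commute g (rx F s) := by
  induction hg using Subgroup.closure_induction with
  | mem x hx =>
    obtain ⟨r, h1, h2, rfl⟩ := hx
    have h := List.all_eq_true.1 (List.all_eq_true.1 central_ok r (List.mem_range'_1.2 ⟨h1, by omega⟩)) s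
      (by simpa using hs)
    simp only [Bool.or_eq_true, beq_iff_eq] at h
    rcases h with e | e
    · rw [e]
    · exact rx_comm hF h2 (by rcases hs with rfl | rfl <;> norm_num) e
  | one => exact Commute.one_left _
  | mul x y _ _ hx hy => exact hx.mul_left hy
  | inv x _ hx => exact hx.inv_left

/-- A root element commuting with the long root involution. -/
theorem com_47 {b : ℕ} (hb : b < 48) (h : Commute (rx F b) (rx F 47)) : (b == 47 || com b 47) = true := by
  have h1 := List.all_eq_true.1 bad47_ok b (List.mem_range.2 hb)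
  simp only [Bool.or_eq_true] at h1 ⊢
  rcases h1 with (h1 | h1) | h1
  · exact h1
  · exfalso
    obtain rfl := beq_iff_eq.1 h1
    have h3 := three hF (show 47 < 48 by norm_num)
    have h2 : (rx F 47 * rx F (chevF4.neg 47)) ^ 2 = 1 := by
      rw [h.symm.mul_pow, pow_two, pow_two, rx_sq hF, rx_sq hF, mul_one]
    have := orderOf_dvd_of_pow_eq_one h2
    rw [h3] at this
    norm_num at this
  · exfalso
    simp only [Bool.and_eq_true] at h1
    have e := rx_rel hF hb (by norm_num) h1.1
    rw [← h.eq, left_eq_mul] at e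
    rcases ht : tm b 47 with _ | ⟨q, _ | ⟨q', _ | ⟨_, _⟩⟩⟩ <;> simp [ht] at h1
    · rw [ht, rp, List.map_singleton, List.prod_singleton] at e
      exact rx_ne_one h1.2 e
    · rw [ht, rp, List.map_cons, List.map_singleton, List.prod_cons, List.prod_singleton] at e
      exact h1.2.2 (rx_inj hF h1.2.1.1 h1.2.1.2 (by
        rw [eq_inv_of_mul_eq_one_left e, rx_inv hF]))

/-- A conjugate of a root involution in the centralizer of the long one is centralized there by an element of
order three. -/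
theorem three_conj {g : FM F} {s : ℕ} (hs : s = 44 ∨ s = 47) (h : g * rx F s * g⁻¹ ∈ P0 F) :
    ∃ d ∈ P0 F, orderOf d = 3 ∧ Commute d (g * rx F s * g⁻¹) := by
  obtain ⟨v, hv, L, hL, u, hu, rfl⟩ := form hF g
  have hs' : s < 48 := by rcases hs with rfl | rfl <;> norm_num
  set b := w L s with hb
  have hb' : b < 48 := F4TwoMult.w_lt hL hs'
  have e : v * nw F L * u * rx F s * (v * nw F L * u)⁻¹ = v * rx F b * v⁻¹ := by
    rw [hb, ← nw_conj hF hL hs', show v * nw F L * u * rx F s * (v * nw F L * u)⁻¹ =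
      v * (nw F L * (u * rx F s * u⁻¹) * (nw F L)⁻¹) * v⁻¹ by group, (upos_comm hF hu hs).eq, mul_inv_cancel_right]
  rw [e] at h ⊢
  have hvP := upos_le_P0 hF hv
  have hbP := mul_mem (mul_mem (inv_mem hvP) h) hvP
  rw [show v⁻¹ * (v * rx F b * v⁻¹) * v = rx F b by group] at hbP
  have hc := com_47 hF hb' (Subgroup.mem_centralizer_singleton_iff.1 hbP)
  have h1 := List.all_eq_true.1 pairs_ok b (List.mem_range.2 hb')
  simp only [hc, Bool.not_true, Bool.false_or, List.any_eq_true, List.mem_range, Bool.and_eq_true] at h1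
  obtain ⟨r, hr, h47, hrb⟩ := h1
  refine ⟨MulAut.conj v (rx F r * rx F (chevF4.neg r)), mul_mem (mul_mem hvP (pair_mem_P0 hF h47)) (inv_mem hvP),
    by rw [MulEquiv.orderOf_eq]; exact three hF hr, ?_⟩
  exact (pair_comm hF hb' hrb).map (MulAut.conj v).toMonoidHom

theorem mem_I0 {g : FM F} : g ∈ I0 F ↔ ∃ n < 128, n % 2 = 0 ∧ g = zc F n := by
  constructor
  · intro h
    induction h using Subgroup.closure_induction with
    | mem x hx =>
      obtain ⟨q, hq, rfl⟩ := hx
      have h := List.all_eq_true.1 il_ok.1 q hq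
      simp only [Bool.and_eq_true, Nat.blt_eq, beq_iff_eq] at h
      have h' := List.all_eq_true.1 idx_ok q ((by decide : ∀ q ∈ Il, q ∈ Zl) q hq)
      simp only [Bool.and_eq_true, Nat.blt_eq, beq_iff_eq] at h'
      exact ⟨_, lt_of_lt_of_eq (Nat.pow_lt_pow_right (by norm_num) h.1) (by norm_num), h.2,
        by rw [zc_pow h.1, h'.2]⟩
    | one => exact ⟨0, by norm_num, rfl, zc_zero.symm⟩
    | mul x y _ _ hx hy =>
      obtain ⟨a, ha, ha2, rfl⟩ := hx
      obtain ⟨b, hb, hb2, rfl⟩ := hy
      refine ⟨a ^^^ b, Nat.xor_lt_two_pow (n := 7) ha hb, ?_, (zc_xor hF a b).symm⟩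
      rw [xor_two, ha2, hb2]; rfl
    | inv x _ hx =>
      obtain ⟨a, ha, ha2, rfl⟩ := hx
      exact ⟨a, ha, ha2, inv_eq_of_mul_eq_one_right (zc_sq hF a)⟩
  · rintro ⟨n, hn, h2, rfl⟩
    have h := List.all_eq_true.1 il_ok.2 n (List.mem_range.2 hn)
    simp only [h2, beq_self_eq_true, Bool.not_true, Bool.false_or, List.all_eq_true, List.contains_iff_mem] at h
    refine list_prod_mem fun x hx => ?_
    obtain ⟨_, hq, rfl⟩ := List.mem_map.1 hx
    obtain ⟨i, hi, rfl⟩ := List.mem_map.1 hq
    exact Subgroup.subset_closure ⟨_, h i hi, rfl⟩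

/-- An element of order three does not centralize the hyperplane. -/
theorem cent_I0 {d : FM F} (hd : ∀ z ∈ I0 F, d * z = z * d) : orderOf d ≠ 3 := by
  intro h3
  have hdP : d ∈ P0 F := Subgroup.mem_centralizer_singleton_iff.2
    (hd _ (Subgroup.subset_closure ⟨47, by decide, rfl⟩))
  refine cent_Zg hF (fun z hz => ?_) h3
  have h1 : zc F 1 = rx F 29 := zc_pow (i := 0) (by norm_num)
  have key : d * zc F 1 = zc F 1 * d := by
    obtain ⟨m, hm, e⟩ := (mem_Zg hF).1 (norm_P0 hF hdP ((mem_Zg hF).2 ⟨1, by norm_num, rfl⟩))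
    rcases Nat.mod_two_eq_zero_or_one m with h0 | h0
    · have hi := hd _ ((mem_I0 hF).2 ⟨m, hm, h0, rfl⟩)
      have : zc F 1 = zc F m := by
        calc zc F 1 = d⁻¹ * (d * zc F 1 * d⁻¹) * d := by group
          _ = zc F m := by rw [e, mul_assoc, ← hi, inv_mul_cancel_left]
      rw [this]; exact hi
    · set i := zc F (m ^^^ 1) with hie
      have hi : d * i = i * d := hd _ ((mem_I0 hF).2 ⟨_, Nat.xor_lt_two_pow (n := 7) hm (by norm_num),
        by rw [xor_two, h0]; rfl, rfl⟩)
      have e1 : d * zc F 1 * d⁻¹ = i * zc F 1 := by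
        rw [e, hie, ← zc_xor hF, Nat.xor_assoc, Nat.xor_self, Nat.xor_zero]
      have e2 : d ^ 2 * zc F 1 * (d ^ 2)⁻¹ = zc F 1 := by
        calc d ^ 2 * zc F 1 * (d ^ 2)⁻¹ = d * (d * zc F 1 * d⁻¹) * d⁻¹ := by rw [pow_two]; group
          _ = d * (i * zc F 1) * d⁻¹ := by rw [e1]
          _ = d * i * d⁻¹ * (d * zc F 1 * d⁻¹) := by group
          _ = zc F 1 := by rw [hi, mul_inv_cancel_right, e1, ← mul_assoc, hie, zc_sq hF, one_mul]
      have hc : Commute (d ^ 2) (zc F 1) := mul_inv_eq_iff_eq_mul.1 e2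
      have e4 : (d ^ 2) ^ 2 = d := by
        rw [← pow_mul, show 2 * 2 = 3 + 1 by norm_num, pow_succ, ← h3, pow_orderOf_eq_one, one_mul]
      exact e4 ▸ (hc.pow_left 2).eq
  obtain ⟨n, hn, rfl⟩ := (mem_Zg hF).1 hz
  rcases Nat.mod_two_eq_zero_or_one n with h0 | h0
  · exact hd _ ((mem_I0 hF).2 ⟨n, hn, h0, rfl⟩)
  · have hi : Commute d (zc F (n ^^^ 1)) := hd _ ((mem_I0 hF).2 ⟨_, Nat.xor_lt_two_pow (n := 7) hn (by norm_num),
      by rw [xor_two, h0]; rfl, rfl⟩)
    have := hi.mul_right (show Commute d (zc F 1) from key)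
    rwa [← zc_xor hF, Nat.xor_assoc, Nat.xor_self, Nat.xor_zero] at this

/-- A noncyclic group of order nine of the centralizer normalizing the hyperplane. -/
theorem nine : ∃ a ∈ P0 F, ∃ b ∈ P0 F, orderOf a = 3 ∧ orderOf b = 3 ∧ Commute a b ∧ b ∉ Subgroup.zpowers a ∧
    a ∈ Subgroup.normalizer (I0 F : Set (FM F)) ∧ b ∈ Subgroup.normalizer (I0 F : Set (FM F)) := by
  obtain ⟨h25, h30, hc, hn, -⟩ := nine_ok
  simp only [List.all_cons, List.all_nil, Bool.and_true, Bool.and_eq_true] at hc
  have hl : ∀ r ∈ [25, chevF4.neg 25, 30, chevF4.neg 30], r < 48 := by decide +kernel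
  have hnorm : ∀ r ∈ [25, chevF4.neg 25, 30, chevF4.neg 30], rx F r ∈ Subgroup.normalizer (I0 F : Set (FM F)) := by
    intro r hr
    have hle : ∀ g ∈ I0 F, rx F r * g * (rx F r)⁻¹ ∈ I0 F := by
      intro g hg
      refine ((Subgroup.closure_le ((I0 F).comap (MulAut.conj (rx F r)).toMonoidHom)).2 ?_ hg :)
      rintro _ ⟨q, hq, rfl⟩
      show rx F r * rx F q * (rx F r)⁻¹ ∈ I0 F
      have h := List.all_eq_true.1 (List.all_eq_true.1 hn r hr) q hq
      simp only [Bool.and_eq_true, List.all_eq_true, List.contains_iff_mem] at h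
      rw [rx_conj hF (hl r hr) ((by decide : ∀ q ∈ Il, q < 48) q hq) h.1]
      refine mul_mem (Subgroup.subset_closure ⟨q, hq, rfl⟩) (list_prod_mem fun x hx => ?_)
      obtain ⟨p, hp, rfl⟩ := List.mem_map.1 hx
      exact Subgroup.subset_closure ⟨p, h.2 p hp, rfl⟩
    refine Subgroup.mem_normalizer_iff.2 fun g => ⟨hle g, fun h => ?_⟩
    have := hle _ h
    rwa [rx_inv hF, ← mul_assoc, ← mul_assoc, rx_sq hF, one_mul, mul_assoc, rx_sq hF, mul_one] at this
  have c25 : ∀ x ∈ [30, chevF4.neg 30], Commute (rx F 25 * rx F (chevF4.neg 25)) (rx F x) := by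
    intro x hx
    refine Commute.mul_left ?_ ?_ <;>
      exact rx_comm hF (hl _ (by simp)) (hl _ (by simp at hx ⊢; tauto)) (by
        simp only [List.mem_cons, List.not_mem_nil, or_false] at hx
        rcases hx with rfl | rfl <;> simp [hc])
  refine ⟨_, pair_mem_P0 hF h25, _, pair_mem_P0 hF h30, three hF (by norm_num), three hF (by norm_num),
    (c25 30 (by simp)).mul_right (c25 (chevF4.neg 30) (by simp)), fun h => ?_,
    mul_mem (hnorm _ (by simp)) (hnorm _ (by simp)), mul_mem (hnorm _ (by simp)) (hnorm _ (by simp))⟩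
  obtain ⟨k, hk⟩ := Subgroup.mem_zpowers_iff.1 h
  have hx : Commute (rx F 30 * rx F (chevF4.neg 30)) (rx F 30) := hk ▸ (c25 30 (by simp)).zpow_left k
  have hy : Commute (rx F 30) (rx F (chevF4.neg 30)) := by
    have := ((Commute.refl (rx F 30)).inv_left).mul_left hx
    rw [inv_mul_cancel_left] at this
    exact this.symm
  have h2 : (rx F 30 * rx F (chevF4.neg 30)) ^ 2 = 1 := by
    rw [hy.mul_pow, pow_two, pow_two, rx_sq hF, rx_sq hF, mul_one]
  have := orderOf_dvd_of_pow_eq_one h2
  rw [three hF (show 30 < 48 by norm_num)] at this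
  norm_num at this

/-- The four conjugates of the span of 39, 40, 44, 47 inside the hyperplane. -/
theorem four_spans : (∀ L ∈ words, nw F L ∈ P0 F ∧ ∀ a ∈ Ahi F, nw F L * a * (nw F L)⁻¹ ∈ I0 F) ∧
    ∀ J : Subgroup (FM F), (∀ L ∈ words, ∀ a ∈ Ahi F, nw F L * a * (nw F L)⁻¹ ∈ J) → I0 F ≤ J := by
  have h := words_ok
  simp only [List.all_eq_true, List.any_eq_true, Bool.and_eq_true, beq_iff_eq, Nat.blt_eq,
    List.contains_iff_mem] at h
  have h4 : ∀ q ∈ [39, 40, 44, 47], q < 48 := by decide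
  refine ⟨fun L hL => ?_, fun J hJ => (Subgroup.closure_le _).2 ?_⟩
  · obtain ⟨⟨hlt, h47⟩, hq⟩ := h.1 L hL
    constructor
    · rw [P0, Subgroup.mem_centralizer_singleton_iff, ← mul_inv_eq_iff_eq_mul, nw_conj hF hlt (by norm_num),
        ← F4TwoMult.wT_eq hlt (by norm_num), h47]
    · intro a ha
      refine ((Subgroup.closure_le ((I0 F).comap (MulAut.conj (nw F L)).toMonoidHom)).2 ?_ ha :)
      rintro _ ⟨q, hqm, rfl⟩
      show nw F L * rx F q * (nw F L)⁻¹ ∈ I0 F
      rw [nw_conj hF hlt (h4 q hqm), ← F4TwoMult.wT_eq hlt (h4 q hqm)]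
      exact Subgroup.subset_closure ⟨_, hq q hqm, rfl⟩
  · rintro _ ⟨q, hq, rfl⟩
    obtain ⟨L, hL, x, hx, rfl⟩ := h.2 q hq
    have h1 := hJ L hL (rx F x) (Subgroup.subset_closure ⟨x, hx, rfl⟩)
    rwa [nw_conj hF (h.1 L hL).1.1 (h4 x hx), ← F4TwoMult.wT_eq (h.1 L hL).1.1 (h4 x hx)] at h1

/-- The classes of involutions. -/
theorem classes : (∀ x ∈ [rx F 47, rx F 44, rx F 47 * rx F 44, rx F 39 * rx F 45], orderOf x = 2) ∧
    (∀ g : FM F, orderOf g = 2 → ∃ h : FM F,
      h * g * h⁻¹ ∈ [rx F 47, rx F 44, rx F 47 * rx F 44, rx F 39 * rx F 45]) ∧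
    ∀ h : FM F, h * rx F 47 * h⁻¹ ≠ rx F 44 ∧ h * rx F 47 * h⁻¹ ≠ rx F 47 * rx F 44 ∧
      h * rx F 44 * h⁻¹ ≠ rx F 47 * rx F 44 := by
  haveI := F4TwoMult.charP_two hF
  obtain ⟨A, B, C⟩ := S2174.result (F := F)
  have e : ∀ r, r < 48 → ((rx F r : GL chevF4.Idx F) : Matrix chevF4.Idx chevF4.Idx F) = chevF4.x F r 1 :=
    fun r hr => by rw [coe_rx F hr]; rfl
  have e47 := e 47 (by norm_num); have e44 := e 44 (by norm_num)
  have e39 := e 39 (by norm_num); have e45 := e 45 (by norm_num)
  refine ⟨fun x hx => ?_, fun g hg => ?_, fun h => ?_⟩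
  · rw [← Subgroup.orderOf_coe]
    refine (A _ ?_).2
    simp only [List.mem_cons, List.not_mem_nil, or_false] at hx ⊢
    rcases hx with rfl | rfl | rfl | rfl <;> simp [Subgroup.coe_mul, Units.val_mul, e47, e44, e39, e45]
  · obtain ⟨y, hy, hmem, h, hh, e⟩ := B g g.2 (by rw [Subgroup.orderOf_coe, hg])
    refine ⟨⟨h, hh⟩, ?_⟩
    rw [show (⟨h, hh⟩ : FM F) * g * (⟨h, hh⟩ : FM F)⁻¹ = ⟨y, hy⟩ from Subtype.ext e]
    simp only [List.mem_cons, List.not_mem_nil, or_false] at hmem ⊢
    simp only [Subtype.ext_iff, Units.ext_iff, Subgroup.coe_mul, Units.val_mul, e47, e44, e39, e45]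
    exact hmem
  · have key : ∀ y : FM F, ((y : GL chevF4.Idx F) : Matrix chevF4.Idx chevF4.Idx F) ∈
        [chevF4.x F 47 1, chevF4.x F 44 1, chevF4.x F 47 1 * chevF4.x F 44 1, chevF4.x F 39 1 * chevF4.x F 45 1] →
        h * rx F 47 * h⁻¹ = y → rx F 47 = y := fun y hy he => Subtype.ext (Units.ext
      (C _ (rx F 47).2 _ y.2 (List.mem_cons.2 (Or.inl e47)) hy ⟨h, h.2, congrArg Subtype.val he⟩))
    have key2 : ∀ y : FM F, ((y : GL chevF4.Idx F) : Matrix chevF4.Idx chevF4.Idx F) ∈
        [chevF4.x F 47 1, chevF4.x F 44 1, chevF4.x F 47 1 * chevF4.x F 44 1, chevF4.x F 39 1 * chevF4.x F 45 1] →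
        h * rx F 44 * h⁻¹ = y → rx F 44 = y := fun y hy he => Subtype.ext (Units.ext
      (C _ (rx F 44).2 _ y.2 (List.mem_cons_of_mem _ (List.mem_cons.2 (Or.inl e44))) hy
        ⟨h, h.2, congrArg Subtype.val he⟩))
    refine ⟨fun he => absurd (rx_inj hF (by norm_num) (by norm_num) (key _ (by simp [e44]) he)) (by norm_num),
      fun he => rx_ne_one (F := F) (show 44 < 48 by norm_num)
        (left_eq_mul.1 (key _ (by simp [Subgroup.coe_mul, Units.val_mul, e47, e44]) he)),
      fun he => rx_ne_one (F := F) (show 47 < 48 by norm_num)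
        (right_eq_mul.1 (key2 _ (by simp [Subgroup.coe_mul, Units.val_mul, e47, e44]) he))⟩

/-- The centralizers of the mixed involutions fix a root involution. -/
theorem cent_mixed {g : FM F} : (Commute g (rx F 47 * rx F 44) → Commute g (rx F 47)) ∧
    (Commute g (rx F 39 * rx F 45) → Commute g (rx F 45)) := by
  haveI := F4TwoMult.charP_two hF
  have e : ∀ r, r < 48 → ((rx F r : GL chevF4.Idx F) : Matrix chevF4.Idx chevF4.Idx F) = chevF4.x F r 1 :=
    fun r hr => by rw [coe_rx F hr]; rfl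
  obtain ⟨hw, hv⟩ := S2179.result ((rx F 47 * rx F 44 : FM F) : GL chevF4.Idx F)
    ((rx F 39 * rx F 45 : FM F) : GL chevF4.Idx F)
    (by simp [Subgroup.coe_mul, Units.val_mul, e 47 (by norm_num), e 44 (by norm_num)])
    (by simp [Subgroup.coe_mul, Units.val_mul, e 39 (by norm_num), e 45 (by norm_num)])
  have gen : ∀ s r : ℕ, s < 48 → r < 48 → (r == s || com r s) = true → ∀ (x : GL chevF4.Idx F) (t : F),
      (x : Matrix chevF4.Idx chevF4.Idx F) = chevF4.x F r t →
      x ∈ Subgroup.centralizer {(rx F s : GL chevF4.Idx F)} := fun s r hs hr h x t hx => by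
    rw [eq_xg hC hx, Subgroup.mem_centralizer_singleton_iff]
    rcases F4TwoMult.eq_or hF t with rfl | rfl
    · rw [xg_zero hC, one_mul, mul_one]
    · simp only [Bool.or_eq_true, beq_iff_eq] at h
      show F4TwoMult.xr F r * _ = _ * F4TwoMult.xr F r
      rw [← coe_rx F hr]
      rcases h with h | h
      · rw [h]
      · exact congrArg Subtype.val (rx_comm hF hr hs h).eq
  have hpos : ∀ r, chevF4.IsPosRoot r → r ∈ List.range' 24 24 := fun r hr => by
    have hr' : r < 48 := nroots ▸ hr.1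
    have h := List.all_eq_true.1 pos_ok r (List.mem_range.2 hr')
    simp only [(hC.posRoot_iff hr.1).1 hr, decide_true, beq_iff_eq, decide_eq_true_eq] at h
    exact List.mem_range'_1.2 ⟨h, by omega⟩
  refine ⟨fun h => ?_, fun h => ?_⟩
  · have hm : (g : GL chevF4.Idx F) ∈ chevF4.group F ⊓ Subgroup.centralizer
        {((rx F 47 * rx F 44 : FM F) : GL chevF4.Idx F)} :=
      ⟨g.2, Subgroup.mem_centralizer_singleton_iff.2 (congrArg Subtype.val h.eq)⟩
    rw [hw] at hm
    refine Subtype.ext (Subgroup.mem_centralizer_singleton_iff.1 ((sup_le (sup_le ?_ ?_) ?_ :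
      _ ≤ Subgroup.centralizer {(rx F 47 : GL chevF4.Idx F)}) hm))
    · refine (Subgroup.closure_le _).2 ?_
      rintro x ⟨r, t, hr, hx⟩
      have hc := List.all_eq_true.1 (List.all_eq_true.1 central_ok r (hpos r hr)) 47 (by simp)
      exact gen 47 r (by norm_num) (nroots ▸ hr.1) hc x t hx
    all_goals
      refine (Subgroup.closure_le _).2 ?_
      rintro x ⟨t, hx⟩
      exact gen 47 _ (by norm_num) (by norm_num) (by decide +kernel) x t hx
  · have hm : (g : GL chevF4.Idx F) ∈ chevF4.group F ⊓ Subgroup.centralizer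
        {((rx F 39 * rx F 45 : FM F) : GL chevF4.Idx F)} :=
      ⟨g.2, Subgroup.mem_centralizer_singleton_iff.2 (congrArg Subtype.val h.eq)⟩
    rw [hv] at hm
    refine Subtype.ext (Subgroup.mem_centralizer_singleton_iff.1 ((sup_le (sup_le (sup_le (sup_le ?_ ?_) ?_) ?_) ?_ :
      _ ≤ Subgroup.centralizer {(rx F 45 : GL chevF4.Idx F)}) hm))
    iterate 4
      · refine (Subgroup.closure_le _).2 ?_
        rintro x ⟨t, hx⟩
        exact gen 45 _ (by norm_num) (by norm_num) (by decide +kernel) x t hx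
    refine (Subgroup.closure_le _).2 ?_
    rintro x ⟨r, t, hr, hne, hx⟩
    have hall : ∀ r ∈ List.range' 24 24, r ∉ [27, 25, 34, 26] → (r == 45 || com r 45) = true := by decide +kernel
    exact gen 45 r (by norm_num) (nroots ▸ hr.1) (hall r (hpos r hr) hne) x t hx

end Cfsg.Agent.FFourLocal.Ctrl
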