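import Cfsg.Agent.Lib.F4TwoMult.Base
import Cfsg.Agent.Lib.Chevalley.NormalForm
import Cfsg.Agent.Lib.Chevalley.InvolCert.F4.Final

/-!
# Root elements inside F₄(2)

The root elements as elements of the group, their separation by commutation, elements of order three and the
Bruhat form without torus.
-/

set_option autoImplicit false
set_option maxRecDepth 20000

namespace Cfsg.Agent.FFourLocal.Ctrl

open Cfsg.Lie Cfsg.Agent.Chevalley Cfsg.Agent.Chevalley.Cert Cfsg.Agent.Chevalley.Group
open Cfsg.Agent.F4TwoMult (hC tm off com w xr_rel xr_sq nr_conj IsRel)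

universe u

theorem nroots : chevF4.nroots = 48 := by decide +kernel

variable (F : Type u) [Field F]

/-- The group. -/
abbrev FM := ↥(chevF4.group F)

/-- A root element of the group. -/
noncomputable def rx (r : ℕ) : FM F :=
  if h : r < 48 then ⟨F4TwoMult.xr F r, Borel.xg_mem_group hC (nroots.symm ▸ h) 1⟩
  else 1

theorem coe_rx {r : ℕ} (hr : r < 48) : (rx F r : GL chevF4.Idx F) = F4TwoMult.xr F r := by
  rw [rx, dif_pos hr]

/-- A fundamental monomial element. -/
noncomputable def nx (i : ℕ) : FM F :=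
  rx F (chevF4.simple i) * rx F (chevF4.neg (chevF4.simple i)) * rx F (chevF4.simple i)

/-- The monomial element of a word. -/
noncomputable def nw (L : List ℕ) : FM F := (L.map (nx F)).prod

/-- The product of the root elements of a list. -/
noncomputable def rp (l : List ℕ) : FM F := (l.map (rx F)).prod

/-- The subgroup of the positive root elements. -/
noncomputable def upos : Subgroup (FM F) := Subgroup.closure {g | ∃ r, 24 ≤ r ∧ r < 48 ∧ g = rx F r}

theorem tm_lt : ((List.range 48).all fun r => (List.range 48).all fun s =>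
    !off r s || (tm r s).all fun q => Nat.blt q 48) = true := by decide +kernel

theorem pos_ok : ((List.range 48).all fun r =>
    decide (24 ≤ r) == decide (0 < Cfsg.Agent.Chevalley.Data.F4.tab.phi r)) = true := by decide +kernel

theorem simple_lt : ((List.range 4).all fun i =>
    Nat.blt (chevF4.simple i) 48 && Nat.blt (chevF4.neg (chevF4.simple i)) 48) = true := by decide +kernel

variable {F} [Fintype F] (hF : Fintype.card F = 2)
include hF

theorem rx_sq (r : ℕ) : rx F r * rx F r = 1 := by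
  by_cases h : r < 48
  · exact Subtype.ext (by rw [Subgroup.coe_mul, coe_rx F h, xr_sq hF]; rfl)
  · rw [rx, dif_neg h, one_mul]

theorem rx_inv (r : ℕ) : (rx F r)⁻¹ = rx F r := inv_eq_of_mul_eq_one_right (rx_sq hF r)

omit hF in
theorem rx_ne_one {r : ℕ} (hr : r < 48) : rx F r ≠ 1 := fun h => one_ne_zero (α := F)
  (Borel.xg_injective hC (r := r) (nroots.symm ▸ hr)
    (show xg hC r (1 : F) = xg hC r 0 by
      rw [xg_zero hC]; exact (coe_rx F hr).symm.trans (congrArg Subtype.val h)))

/-- The relation of a pair. -/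
theorem rx_rel {r s : ℕ} (hr : r < 48) (hs : s < 48) (h : off r s = true) :
    rx F s * rx F r = rx F r * rx F s * rp F (tm r s) := by
  have ht := List.all_eq_true.1 (List.all_eq_true.1 tm_lt r (List.mem_range.2 hr)) s (List.mem_range.2 hs)
  simp only [h, Bool.not_true, Bool.false_or, List.all_eq_true, Nat.blt_eq] at ht
  refine Subtype.ext ?_
  have e : ((rp F (tm r s) : FM F) : GL chevF4.Idx F) = ((tm r s).map (F4TwoMult.xr F)).prod := by
    rw [rp, ← Subgroup.coe_subtype, map_list_prod, List.map_map]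
    exact congrArg List.prod (List.map_congr_left fun q hq => coe_rx F (ht q hq))
  simp only [Subgroup.coe_mul, coe_rx F hr, coe_rx F hs, e]
  have := xr_rel hF hr hs h
  rwa [IsRel, one_mul] at this

/-- Conjugation of a root element by another. -/
theorem rx_conj {r s : ℕ} (hr : r < 48) (hs : s < 48) (h : off r s = true) :
    rx F r * rx F s * (rx F r)⁻¹ = rx F s * rp F (tm r s) := by
  rw [rx_inv hF, mul_assoc, rx_rel hF hr hs h, ← mul_assoc, ← mul_assoc, rx_sq hF, one_mul]

theorem rx_comm {r s : ℕ} (hr : r < 48) (hs : s < 48) (h : com r s = true) :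
    Commute (rx F r) (rx F s) := by
  simp only [com, Bool.and_eq_true, beq_iff_eq] at h
  have e := rx_rel hF hr hs h.1
  rw [h.2, rp, List.map_nil, List.prod_nil, mul_one] at e
  exact e.symm

omit hF in
/-- The pair does not commute, by a single root. -/
def ncs (r s : ℕ) : Bool := off r s && (tm r s).length == 1 && (tm r s).all fun q => Nat.blt q 48

theorem not_comm {r s : ℕ} (hr : r < 48) (hs : s < 48) (h : ncs r s = true) :
    ¬ Commute (rx F r) (rx F s) := by
  intro hc
  simp only [ncs, Bool.and_eq_true, beq_iff_eq, List.all_eq_true, Nat.blt_eq] at h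
  obtain ⟨q, hq⟩ := List.length_eq_one_iff.1 h.1.2
  have e := rx_rel hF hr hs h.1.1
  rw [← hc.eq, hq, rp, List.map_singleton, List.prod_singleton, left_eq_mul] at e
  exact rx_ne_one (h.2 q (hq ▸ List.mem_singleton_self q)) e

omit hF in
theorem sep_ok : ((List.range 48).all fun a => (List.range 48).all fun b => a == b ||
    (List.range 48).any fun r => (r == a || com r a) && ncs r b) = true := by decide +kernel

theorem rx_inj {a b : ℕ} (ha : a < 48) (hb : b < 48) (h : rx F a = rx F b) : a = b := by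
  by_contra hne
  have h1 := List.all_eq_true.1 (List.all_eq_true.1 sep_ok a (List.mem_range.2 ha)) b (List.mem_range.2 hb)
  simp only [beq_eq_false_iff_ne.2 hne, Bool.false_or, List.any_eq_true, List.mem_range, Bool.and_eq_true,
    Bool.or_eq_true, beq_iff_eq] at h1
  obtain ⟨r, hr, h2, h3⟩ := h1
  refine not_comm hF hr hb h3 (h ▸ ?_)
  rcases h2 with rfl | h2
  · exact Commute.refl _
  · exact rx_comm hF hr ha h2

/-! ### Monomial elements -/

theorem nx_conj {i r : ℕ} (hi : i < 4) (hr : r < 48) :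
    nx F i * rx F r * (nx F i)⁻¹ = rx F (chevF4.reflectRoot i r) := by
  have hs := List.all_eq_true.1 simple_lt i (List.mem_range.2 hi)
  simp only [Bool.and_eq_true, Nat.blt_eq] at hs
  have h48 : chevF4.reflectRoot i r < 48 := F4TwoMult.w_lt (L := [i]) (by simpa using hi) hr
  have e : ((nx F i : FM F) : GL chevF4.Idx F) = F4TwoMult.nr F i := by
    simp only [nx, Subgroup.coe_mul, coe_rx F hs.1, coe_rx F hs.2, F4TwoMult.nr]
  refine Subtype.ext ?_
  simp only [Subgroup.coe_mul, Subgroup.coe_inv, e, coe_rx F hr, coe_rx F h48]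
  exact nr_conj hF hi hr

theorem nw_conj : ∀ {L : List ℕ}, (∀ i ∈ L, i < 4) → ∀ {r : ℕ}, r < 48 →
    nw F L * rx F r * (nw F L)⁻¹ = rx F (w L r)
  | [], _, r, _ => by simp [nw, w, wL]
  | i :: L, hL, r, hr => by
    have hL' : ∀ j ∈ L, j < 4 := fun j hj => hL j (List.mem_cons_of_mem i hj)
    have e : nw F (i :: L) = nx F i * nw F L := by simp [nw]
    rw [e, show nx F i * nw F L * rx F r * (nx F i * nw F L)⁻¹ =
        nx F i * (nw F L * rx F r * (nw F L)⁻¹) * (nx F i)⁻¹ by group,
      nw_conj hL' hr, nx_conj hF (hL i List.mem_cons_self) (F4TwoMult.w_lt hL' hr)]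
    rfl

/-! ### Elements of order three -/

omit hF in
/-- A word from a fundamental root, by breadth first search. -/
theorem simple_neg_ok : ((List.range 4).all fun i =>
    chevF4.reflectRoot i (chevF4.simple i) == chevF4.neg (chevF4.simple i) &&
      chevF4.simple i != chevF4.neg (chevF4.simple i)) = true := by decide +kernel

omit hF in
/-- Every root is the image of a fundamental root, its negative likewise. -/
def reach : List (ℕ × List ℕ) := 
  [(2, [3, 2, 1, 2, 3, 0, 1, 2]), (2, [2, 1, 2, 3, 0, 1, 2]), (2, [1, 2, 3, 0, 1, 2]), (0, [0, 1, 2, 3, 1, 2,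
  1, 0]), (2, [2, 3, 0, 1, 2]), (2, [3, 0, 1, 2]), (2, [0, 1, 2]), (0, [1, 2, 3, 1, 2, 1, 0]), (0, [2, 3, 1,
  2, 1, 0]), (0, [3, 1, 2, 1, 0]), (0, [1, 2, 1, 0]), (0, [3, 2, 1, 0]), (0, [2, 1, 0]), (0, [1, 0]), (0,
  [0]), (2, [2, 3, 1, 2]), (2, [3, 1, 2]), (2, [1, 2]), (1, [3, 2, 1]), (1, [2, 1]), (1, [1]), (2, [3, 2]),
  (2, [2]), (3, [3]), (3, []), (2, []), (2, [3]), (1, []), (1, [2]), (1, [3, 2]), (2, [1]), (2, [3, 1]), (2,
  [2, 3, 1]), (0, []), (0, [1]), (0, [2, 1]), (0, [3, 2, 1]), (0, [1, 2, 1]), (0, [3, 1, 2, 1]), (0, [2, 3, 1,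
  2, 1]), (0, [1, 2, 3, 1, 2, 1]), (2, [0, 1]), (2, [3, 0, 1]), (2, [2, 3, 0, 1]), (0, [0, 1, 2, 3, 1, 2, 1]),
  (2, [1, 2, 3, 0, 1]), (2, [2, 1, 2, 3, 0, 1]), (2, [3, 2, 1, 2, 3, 0, 1])]

omit hF in
theorem reach_ok : ((List.range 48).all fun r =>
    let p := reach.getD r (0, [])
    Nat.blt p.1 4 && p.2.all (fun i => Nat.blt i 4) && F4TwoMult.wT p.2 (chevF4.simple p.1) == r &&
      F4TwoMult.wT p.2 (chevF4.neg (chevF4.simple p.1)) == chevF4.neg r) = true := by decide +kernel

/-- A root element times its opposite has order three. -/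
theorem three {r : ℕ} (hr : r < 48) : orderOf (rx F r * rx F (chevF4.neg r)) = 3 := by
  have h := List.all_eq_true.1 reach_ok r (List.mem_range.2 hr)
  simp only [Bool.and_eq_true, Nat.blt_eq, List.all_eq_true, beq_iff_eq] at h
  generalize reach.getD r (0, []) = p at h
  obtain ⟨i, L⟩ := p
  obtain ⟨⟨⟨hi, hL⟩, h1⟩, h2⟩ := h
  have hs := List.all_eq_true.1 simple_lt _ (List.mem_range.2 hi)
  simp only [Bool.and_eq_true, Nat.blt_eq] at hs
  rw [F4TwoMult.wT_eq hL hs.1] at h1
  rw [F4TwoMult.wT_eq hL hs.2] at h2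
  rw [← h2, ← h1, ← nw_conj hF hL hs.1, ← nw_conj hF hL hs.2]
  set n := nw F L
  set x := rx F (chevF4.simple i) with hx
  set y := rx F (chevF4.neg (chevF4.simple i)) with hy
  rw [show n * x * n⁻¹ * (n * y * n⁻¹) = MulAut.conj n (x * y) by simp [MulAut.conj_apply, mul_assoc],
    MulEquiv.orderOf_eq]
  have hno := List.all_eq_true.1 simple_neg_ok i (List.mem_range.2 hi)
  simp only [Bool.and_eq_true, beq_iff_eq, bne_iff_ne] at hno
  have hxx : x * x = 1 := rx_sq hF _
  have hyy : y * y = 1 := rx_sq hF _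
  have e := nx_conj hF hi hs.1
  rw [hno.1, nx, ← hx, ← hy, mul_inv_rev, mul_inv_rev, inv_eq_of_mul_eq_one_right hxx,
    inv_eq_of_mul_eq_one_right hyy] at e
  refine orderOf_eq_prime (p := 3) (hp := ⟨Nat.prime_three⟩) ?_ fun h => ?_
  · have e2 : x * y * x * y * x = y := by
      calc x * y * x * y * x = x * y * (x * x) * x * y * x := by rw [hxx, mul_one]
        _ = x * y * x * x * (x * (y * x)) := by group
        _ = y := e
    calc (x * y) ^ 3 = x * y * x * y * x * y := by simp [pow_succ, mul_assoc]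
      _ = 1 := by rw [e2, hyy]
  · refine hno.2 (rx_inj hF hs.1 hs.2 ?_)
    rw [← hx, ← hy, eq_inv_of_mul_eq_one_left h, inv_eq_of_mul_eq_one_right hyy]

end Cfsg.Agent.FFourLocal.Ctrl
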